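/-
An elementary abelian TI subgroup with a conjugate in the radical of its normalizer.
-/
import Mathlib
import Cfsg.Prelude.Def_Transfer
import Cfsg.Agent.Lib.PGroup.Basic

set_option autoImplicit false

open scoped commutatorElement Pointwise

namespace CfsgLib.TISub

variable {G : Type*} [Group G]

/-- The conjugate `x H x⁻¹`. -/
def cj (x : G) (H : Subgroup G) : Subgroup G := H.map (MulAut.conj x).toMonoidHom

theorem mem_cj {x a : G} {H : Subgroup G} : a ∈ cj x H ↔ x⁻¹ * a * x ∈ H := by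
  constructor
  · rintro ⟨b, hb, rfl⟩; simpa [mul_assoc] using hb
  · intro h; exact ⟨_, h, by simp [mul_assoc]⟩

theorem conj_mem_cj {x a : G} {H : Subgroup G} (h : a ∈ H) : x * a * x⁻¹ ∈ cj x H :=
  mem_cj.2 (by simpa [mul_assoc] using h)

theorem cj_mul (x y : G) (H : Subgroup G) : cj (x * y) H = cj x (cj y H) := by
  ext a; simp only [mem_cj, mul_inv_rev, mul_assoc]

theorem cj_one (H : Subgroup G) : cj 1 H = H := by ext a; simp [mem_cj]

theorem cj_mono {x : G} {H K : Subgroup G} (h : H ≤ K) : cj x H ≤ cj x K := Subgroup.map_mono h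

theorem cj_sup (x : G) (H K : Subgroup G) : cj x (H ⊔ K) = cj x H ⊔ cj x K := Subgroup.map_sup H K _

theorem card_cj (x : G) (H : Subgroup G) : Nat.card (cj x H) = Nat.card H :=
  Subgroup.card_map_of_injective (MulEquiv.injective _)

theorem cj_eq_self_iff {x : G} {H : Subgroup G} :
    cj x H = H ↔ x ∈ Subgroup.normalizer (H : Set G) := by
  rw [Subgroup.mem_normalizer_iff]
  constructor
  · intro h a
    conv_rhs => rw [← h, mem_cj]
    simp [mul_assoc]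
  · intro h
    ext a
    rw [mem_cj, h (x⁻¹ * a * x)]
    simp [mul_assoc]

theorem cj_eq_of_le [Finite G] {x : G} {H : Subgroup G} (h : cj x H ≤ H) : cj x H = H :=
  Subgroup.eq_of_le_of_card_ge h (card_cj x H).ge

theorem conj_comm (x a b : G) : x * ⁅a, b⁆ * x⁻¹ = ⁅x * a * x⁻¹, x * b * x⁻¹⁆ := by
  simp only [commutatorElement_def]; group

theorem comm_eq_one_of_commute {a b : G} (h : a * b = b * a) : ⁅a, b⁆ = 1 := by
  rw [commutatorElement_def, h, mul_inv_cancel_right, mul_inv_cancel]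

theorem commute_of_comm_eq_one {a b : G} (h : ⁅a, b⁆ = 1) : a * b = b * a := by
  rw [commutatorElement_def] at h
  have h2 := congrArg (fun z => z * b * a) h
  simpa [mul_assoc] using h2

theorem mem_sup_commute {A B : Subgroup G} (h : ∀ a ∈ A, ∀ b ∈ B, a * b = b * a) {x : G} :
    x ∈ A ⊔ B ↔ ∃ a ∈ A, ∃ b ∈ B, x = a * b := by
  have hn : A ≤ Subgroup.normalizer (B : Set G) := by
    intro a ha; rw [Subgroup.mem_normalizer_iff]
    intro b
    constructor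
    · intro hb; rwa [h a ha b hb, mul_inv_cancel_right]
    · intro hb
      have h2 := h a ha _ hb
      have he : b = a * b * a⁻¹ := by
        have h3 := congrArg (fun z => a⁻¹ * z) h2
        simpa [mul_assoc] using h3.symm
      rwa [he]
  constructor
  · intro hx
    have : x ∈ ((A : Set G) * (B : Set G)) := by
      rw [← Subgroup.coe_mul_of_left_le_normalizer_right A B hn]; exact hx
    obtain ⟨a, ha, b, hb, rfl⟩ := this
    exact ⟨a, ha, b, hb, rfl⟩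
  · rintro ⟨a, ha, b, hb, rfl⟩
    exact mul_mem (Subgroup.mem_sup_left ha) (Subgroup.mem_sup_right hb)

/-- Iterating an automorphism that shifts `q` by a fixed element. -/
theorem eq_one_of_shift [Finite G] {x q v : G} (hodd : Odd (orderOf x))
    (h : x * q * x⁻¹ = v * q) (hv : x * v = v * x) (h2 : v * v = 1) : v = 1 := by
  have hk : ∀ k : ℕ, x ^ k * q * (x ^ k)⁻¹ = v ^ k * q := by
    intro k
    induction k with
    | zero => simp
    | succ k ih =>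
      have hxv : x * v ^ k * x⁻¹ = v ^ k := by
        rw [show x * v ^ k = v ^ k * x from (Commute.pow_right hv k), mul_inv_cancel_right]
      calc x ^ (k + 1) * q * (x ^ (k + 1))⁻¹ = x * (x ^ k * q * (x ^ k)⁻¹) * x⁻¹ := by
            rw [pow_succ']; group
        _ = (x * v ^ k * x⁻¹) * (x * q * x⁻¹) := by rw [ih]; group
        _ = v ^ (k + 1) * q := by rw [hxv, h, pow_succ, mul_assoc]
  obtain ⟨j, hj⟩ := hodd
  have h1 := hk (orderOf x)
  rw [pow_orderOf_eq_one, one_mul, inv_one, mul_one] at h1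
  have h3 : v ^ orderOf x = 1 := mul_eq_right.1 h1.symm
  rwa [hj, pow_succ, pow_mul, pow_two, h2, one_pow, one_mul] at h3

theorem isPGroup_two_of_odd [Finite G] {K : Subgroup G}
    (h : ∀ x ∈ K, Odd (orderOf x) → x = 1) : IsPGroup 2 K := by
  intro x
  obtain ⟨k, m, hm, he⟩ := Nat.exists_eq_two_pow_mul_odd (orderOf_pos (x : G)).ne'
  refine ⟨k, Subtype.ext ?_⟩
  rw [Subgroup.coe_pow, Subgroup.coe_one]
  apply h _ (pow_mem x.2 _)
  rw [orderOf_pow' _ (by positivity), he, Nat.gcd_eq_right (dvd_mul_right _ _),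
    Nat.mul_div_cancel_left _ (by positivity)]
  exact hm

/-- The configuration. -/
structure Data (G : Type*) [Group G] where
  V : Subgroup G
  M : Subgroup G
  Q : Subgroup G
  hV : Cfsg.IsElementaryAbelian 2 V
  hM : M = Subgroup.normalizer (V : Set G)
  hQM : Q ≤ M
  hVQ : V ≤ Q
  hQn : ∀ m ∈ M, ∀ q ∈ Q, m * q * m⁻¹ ∈ Q
  hQp : IsPGroup 2 Q
  hQmax : ∀ N : Subgroup G, N ≤ M → (∀ m ∈ M, ∀ n ∈ N, m * n * m⁻¹ ∈ N) → IsPGroup 2 N → N ≤ Q
  hQc : ∀ x ∈ M, (∀ q ∈ Q, x * q = q * x) → x ∈ Q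
  hmax : ∀ A : Subgroup G, V ≤ A → A ≤ M → IsMulCommutative ↥A →
      (∀ m ∈ M, ∀ a ∈ A, m * a * m⁻¹ ∈ A) → A = V
  hti : ∀ x : G, cj x V = V ∨ cj x V ⊓ V = ⊥

namespace Data

variable [Finite G] (D : Data G)

/-- `C_Q(V)`. -/
def P : Subgroup G := D.Q ⊓ Subgroup.centralizer (D.V : Set G)

theorem sq_V {v : G} (hv : v ∈ D.V) : v * v = 1 := by rw [← pow_two]; exact D.hV.2 v hv

theorem inv_V {v : G} (hv : v ∈ D.V) : v⁻¹ = v := inv_eq_of_mul_eq_one_right (D.sq_V hv)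

theorem comm_V {a b : G} (ha : a ∈ D.V) (hb : b ∈ D.V) : a * b = b * a := by
  have := D.hV.1
  exact congrArg Subtype.val (mul_comm' (⟨a, ha⟩ : D.V) ⟨b, hb⟩)

theorem mem_M {m : G} : m ∈ D.M ↔ cj m D.V = D.V := by rw [cj_eq_self_iff, D.hM]

theorem conj_V {m v : G} (hm : m ∈ D.M) (hv : v ∈ D.V) : m * v * m⁻¹ ∈ D.V := by
  rw [← D.mem_M.1 hm]; exact conj_mem_cj hv

theorem eq_of_mem_cj {x a : G} (ha : a ∈ cj x D.V) (hb : a ∈ D.V) (h1 : a ≠ 1) :
    cj x D.V = D.V := by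
  rcases D.hti x with h | h
  · exact h
  · exfalso
    have h2 : a ∈ cj x D.V ⊓ D.V := ⟨ha, hb⟩
    rw [h] at h2
    exact h1 (Subgroup.mem_bot.1 h2)

theorem mem_M_of_conj {x v : G} (hv : v ∈ D.V) (h1 : v ≠ 1) (h : x * v * x⁻¹ ∈ D.V) : x ∈ D.M :=
  D.mem_M.2 (D.eq_of_mem_cj (conj_mem_cj hv) h (fun he => h1 (conj_eq_one_iff.1 he)))

theorem cj_eq_cj {x y a : G} (ha : a ∈ cj x D.V) (hb : a ∈ cj y D.V) (h1 : a ≠ 1) :
    cj x D.V = cj y D.V := by
  have h : cj (y⁻¹ * x) D.V = D.V := by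
    refine D.eq_of_mem_cj (a := y⁻¹ * a * y) ?_ (mem_cj.1 hb) ?_
    · rw [mem_cj]; have := mem_cj.1 ha; simpa [mul_assoc] using this
    · intro he; apply h1
      have := congrArg (fun z => y * z * y⁻¹) he
      simpa [mul_assoc] using this
  calc cj x D.V = cj y (cj (y⁻¹ * x) D.V) := by rw [← cj_mul, mul_inv_cancel_left]
    _ = _ := by rw [h]

theorem P_le_Q : D.P ≤ D.Q := inf_le_left

theorem P_le_M : D.P ≤ D.M := D.P_le_Q.trans D.hQM

theorem commute_P_V {p v : G} (hp : p ∈ D.P) (hv : v ∈ D.V) : p * v = v * p :=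
  (hp.2 v hv).symm

theorem V_le_P : D.V ≤ D.P := fun _ hv => ⟨D.hVQ hv, fun _ hw => D.comm_V hw hv⟩

theorem mem_P {x : G} (hQ : x ∈ D.Q) (hC : ∀ v ∈ D.V, x * v = v * x) : x ∈ D.P :=
  ⟨hQ, fun v hv => (hC v hv).symm⟩

theorem conj_P {m p : G} (hm : m ∈ D.M) (hp : p ∈ D.P) : m * p * m⁻¹ ∈ D.P := by
  refine D.mem_P (D.hQn m hm p hp.1) fun v hv => ?_
  have hv' : m⁻¹ * v * m ∈ D.V := by simpa using D.conj_V (inv_mem hm) hv
  calc m * p * m⁻¹ * v = m * (p * (m⁻¹ * v * m)) * m⁻¹ := by group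
    _ = m * ((m⁻¹ * v * m) * p) * m⁻¹ := by rw [D.commute_P_V hp hv']
    _ = v * (m * p * m⁻¹) := by group

theorem cj_P_eq {m : G} (hm : m ∈ D.M) : cj m D.P = D.P := cj_eq_of_le (by
  rintro _ ⟨p, hp, rfl⟩; exact D.conj_P hm hp)

theorem cj_P_eq_of {x y : G} (h : cj x D.V = cj y D.V) : cj x D.P = cj y D.P := by
  have hm : y⁻¹ * x ∈ D.M := D.mem_M.2 (by rw [cj_mul, h, ← cj_mul, inv_mul_cancel, cj_one])
  calc cj x D.P = cj y (cj (y⁻¹ * x) D.P) := by rw [← cj_mul, mul_inv_cancel_left]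
    _ = _ := by rw [D.cj_P_eq hm]

/-- A normal abelian subgroup inside `P` lies in `V`. -/
theorem le_V {C : Subgroup G} (hC : C ≤ D.Q) (hcV : ∀ c ∈ C, ∀ v ∈ D.V, c * v = v * c)
    (hcc : ∀ a ∈ C, ∀ b ∈ C, a * b = b * a)
    (hn : ∀ m ∈ D.M, ∀ c ∈ C, m * c * m⁻¹ ∈ C) : C ≤ D.V := by
  have hA : D.V ⊔ C = D.V := by
    have hcm : ∀ a ∈ D.V, ∀ b ∈ C, a * b = b * a := fun a ha b hb => (hcV b hb a ha).symm
    refine D.hmax _ le_sup_left (sup_le (D.hVQ.trans D.hQM) (hC.trans D.hQM)) ⟨⟨?_⟩⟩ ?_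
    · rintro ⟨a, ha⟩ ⟨b, hb⟩
      obtain ⟨a1, ha1, a2, ha2, rfl⟩ := (mem_sup_commute hcm).1 ha
      obtain ⟨b1, hb1, b2, hb2, rfl⟩ := (mem_sup_commute hcm).1 hb
      apply Subtype.ext
      show a1 * a2 * (b1 * b2) = b1 * b2 * (a1 * a2)
      have c1 : Commute a1 b1 := D.comm_V ha1 hb1
      have c2 : Commute a1 b2 := hcm a1 ha1 b2 hb2
      have c3 : Commute a2 b1 := hcV a2 ha2 b1 hb1
      have c4 : Commute a2 b2 := hcc a2 ha2 b2 hb2
      exact ((c1.mul_right c2).mul_left (c3.mul_right c4)).eq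
    · intro m hm a ha
      obtain ⟨a1, ha1, a2, ha2, rfl⟩ := (mem_sup_commute hcm).1 ha
      rw [show m * (a1 * a2) * m⁻¹ = m * a1 * m⁻¹ * (m * a2 * m⁻¹) by group]
      exact mul_mem (Subgroup.mem_sup_left (D.conj_V hm ha1)) (Subgroup.mem_sup_right (hn m hm a2 ha2))
  exact le_sup_right.trans_eq hA

theorem center_P {x : G} (hx : x ∈ D.P) (h : ∀ p ∈ D.P, x * p = p * x) : x ∈ D.V := by
  refine D.le_V (C := D.P ⊓ Subgroup.centralizer (D.P : Set G)) (inf_le_left.trans D.P_le_Q)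
    (fun c hc v hv => D.commute_P_V hc.1 hv) (fun a ha b hb => hb.2 a ha.1) ?_
    ⟨hx, fun p hp => (h p hp).symm⟩
  rintro m hm c ⟨hc, hcc⟩
  refine ⟨D.conj_P hm hc, fun p hp => ?_⟩
  have hp' : m⁻¹ * p * m ∈ D.P := by simpa using D.conj_P (inv_mem hm) hp
  have := hcc _ hp'
  calc p * (m * c * m⁻¹) = m * ((m⁻¹ * p * m) * c) * m⁻¹ := by group
    _ = m * (c * (m⁻¹ * p * m)) * m⁻¹ := by rw [this]
    _ = m * c * m⁻¹ * p := by group

theorem center_Q {x : G} (hx : x ∈ D.Q) (h : ∀ q ∈ D.Q, x * q = q * x) : x ∈ D.V := by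
  refine D.le_V (C := D.Q ⊓ Subgroup.centralizer (D.Q : Set G)) inf_le_left
    (fun c hc v hv => (hc.2 v (D.hVQ hv)).symm) (fun a ha b hb => hb.2 a ha.1) ?_
    ⟨hx, fun p hp => (h p hp).symm⟩
  rintro m hm c ⟨hc, hcc⟩
  refine ⟨D.hQn m hm c hc, fun p hp => ?_⟩
  have hp' : m⁻¹ * p * m ∈ D.Q := by simpa using D.hQn _ (inv_mem hm) p hp
  have := hcc _ hp'
  calc p * (m * c * m⁻¹) = m * ((m⁻¹ * p * m) * c) * m⁻¹ := by group
    _ = m * (c * (m⁻¹ * p * m)) * m⁻¹ := by rw [this]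
    _ = m * c * m⁻¹ * p := by group

/-- `P` has class at most two. -/
theorem comm_mem {a b : G} (ha : a ∈ D.P) (hb : b ∈ D.P) : ⁅a, b⁆ ∈ D.V := by
  let Z2 : Subgroup G :=
    { carrier := {x | x ∈ D.P ∧ ∀ p ∈ D.P, ⁅x, p⁆ ∈ D.V}
      one_mem' := ⟨one_mem _, fun p _ => by rw [commutatorElement_one_left]; exact one_mem _⟩
      mul_mem' := by
        rintro x y ⟨hx, hx'⟩ ⟨hy, hy'⟩
        refine ⟨mul_mem hx hy, fun p hp => ?_⟩
        rw [show ⁅x * y, p⁆ = x * ⁅y, p⁆ * x⁻¹ * ⁅x, p⁆ by simp only [commutatorElement_def]; group]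
        exact mul_mem (D.conj_V (D.P_le_M hx) (hy' p hp)) (hx' p hp)
      inv_mem' := by
        rintro x ⟨hx, hx'⟩
        refine ⟨inv_mem hx, fun p hp => ?_⟩
        rw [show ⁅x⁻¹, p⁆ = x⁻¹ * ⁅x, p⁆⁻¹ * x⁻¹⁻¹ by simp only [commutatorElement_def]; group]
        exact D.conj_V (inv_mem (D.P_le_M hx)) (inv_mem (hx' p hp)) }
  have hC : Z2 ⊓ ⁅D.P, D.P⁆ ≤ D.V := by
    have hzc : ∀ x ∈ Z2, ∀ d ∈ ⁅D.P, D.P⁆, x * d = d * x := by
      intro x hx d hd
      have hle : ⁅D.P, D.P⁆ ≤ Subgroup.centralizer {x} := by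
        rw [Subgroup.commutator_le]
        intro a ha b hb
        rw [Subgroup.mem_centralizer_singleton_iff]
        obtain ⟨v, hv, hva⟩ : ∃ v ∈ D.V, x * a * x⁻¹ = v * a :=
          ⟨⁅x, a⁆, hx.2 a ha, by simp only [commutatorElement_def]; group⟩
        obtain ⟨w, hw, hwb⟩ : ∃ w ∈ D.V, x * b * x⁻¹ = w * b :=
          ⟨⁅x, b⁆, hx.2 b hb, by simp only [commutatorElement_def]; group⟩
        have e : x * ⁅a, b⁆ * x⁻¹ = ⁅a, b⁆ := by
          rw [conj_comm, hva, hwb]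
          simp only [commutatorElement_def, mul_inv_rev]
          calc v * a * (w * b) * (a⁻¹ * v⁻¹) * (b⁻¹ * w⁻¹)
              = v * (a * w) * (b * a⁻¹) * (v⁻¹ * b⁻¹) * w⁻¹ := by group
            _ = v * (w * a) * (b * a⁻¹) * (b⁻¹ * v⁻¹) * w⁻¹ := by
                rw [D.commute_P_V ha hw, D.commute_P_V (inv_mem hb) (inv_mem hv)]
            _ = (v * w) * (a * b * a⁻¹ * b⁻¹) * (w * v)⁻¹ := by group
            _ = (a * b * a⁻¹ * b⁻¹) * (v * w) * (w * v)⁻¹ := by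
                have hc : a * b * a⁻¹ * b⁻¹ ∈ D.P :=
                  mul_mem (mul_mem (mul_mem ha hb) (inv_mem ha)) (inv_mem hb)
                rw [D.commute_P_V hc (mul_mem hv hw)]
            _ = _ := by rw [D.comm_V hv hw]; group
        exact (mul_inv_eq_iff_eq_mul.1 e).symm
      exact (Subgroup.mem_centralizer_singleton_iff.1 (hle hd)).symm
    refine D.le_V (inf_le_left.trans (fun x hx => D.P_le_Q hx.1))
      (fun c hc v hv => D.commute_P_V hc.1.1 hv) (fun a ha b hb => hzc a ha.1 b hb.2) ?_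
    rintro m hm c ⟨⟨hc, hc'⟩, hcd⟩
    refine ⟨⟨D.conj_P hm hc, fun p hp => ?_⟩, ?_⟩
    · have hp' : m⁻¹ * p * m ∈ D.P := by simpa using D.conj_P (inv_mem hm) hp
      have := D.conj_V hm (hc' _ hp')
      rw [conj_comm] at this
      simpa [mul_assoc] using this
    · have : (⁅D.P, D.P⁆).map (MulAut.conj m).toMonoidHom ≤ ⁅D.P, D.P⁆ := by
        rw [Subgroup.map_commutator]
        have := D.cj_P_eq hm
        unfold cj at this
        rw [this]
      exact this ⟨c, hcd, rfl⟩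
  -- the quotient
  by_contra hab
  have hPp : IsPGroup 2 D.P := D.hQp.to_le D.P_le_Q
  let V' : Subgroup D.P := D.V.subgroupOf D.P
  have : V'.Normal := ⟨fun v hv p => D.conj_V (D.P_le_M p.2) hv⟩
  let π := QuotientGroup.mk' V'
  have hne : (_root_.commutator ↥D.P).map π ≠ ⊥ := by
    intro h
    apply hab
    have hm : ⁅(⟨a, ha⟩ : D.P), ⟨b, hb⟩⁆ ∈ (_root_.commutator ↥D.P) :=
      Subgroup.commutator_mem_commutator (Subgroup.mem_top _) (Subgroup.mem_top _)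
    have h1 := Subgroup.mem_map_of_mem π hm
    rw [h, Subgroup.mem_bot] at h1
    have h4 : ⁅(⟨a, ha⟩ : D.P), ⟨b, hb⟩⁆ ∈ V' := (QuotientGroup.eq_one_iff _).1 h1
    exact h4
  have hnorm : ((_root_.commutator ↥D.P).map π).Normal :=
    Subgroup.Normal.map inferInstance π (QuotientGroup.mk'_surjective V')
  have hmeet := CfsgLib.PGroup.inf_center_ne_bot (hPp.to_quotient V') (N := (_root_.commutator ↥D.P).map π) hne
  rw [Subgroup.ne_bot_iff_exists_ne_one] at hmeet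
  obtain ⟨⟨z, hz⟩, hz1⟩ := hmeet
  obtain ⟨⟨d, hd, rfl⟩, hzc⟩ := hz
  apply hz1
  apply Subtype.ext
  apply (QuotientGroup.eq_one_iff d).2
  refine hC ⟨⟨d.2, fun p hp => ?_⟩, ?_⟩
  · have h2 := Subgroup.mem_center_iff.1 hzc (π ⟨p, hp⟩)
    have h3 : π ⁅d, (⟨p, hp⟩ : D.P)⁆ = 1 := by
      rw [map_commutatorElement]
      exact comm_eq_one_of_commute h2.symm
    have h4 : ⁅d, (⟨p, hp⟩ : D.P)⁆ ∈ V' := (QuotientGroup.eq_one_iff _).1 h3
    exact h4
  · have hle : (_root_.commutator ↥D.P).map D.P.subtype ≤ ⁅D.P, D.P⁆ := by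
      rw [commutator_def, Subgroup.map_commutator, ← MonoidHom.range_eq_map, Subgroup.range_subtype]
    exact hle ⟨d, hd, rfl⟩

theorem comm_mul_left' {a b c : G} (ha : a ∈ D.P) (hb : b ∈ D.P) (hc : c ∈ D.P) :
    ⁅a * b, c⁆ = ⁅a, c⁆ * ⁅b, c⁆ := by
  have h := D.comm_mem hb hc
  rw [show ⁅a * b, c⁆ = a * ⁅b, c⁆ * a⁻¹ * ⁅a, c⁆ by simp only [commutatorElement_def]; group,
    D.commute_P_V ha h, mul_inv_cancel_right, D.comm_V h (D.comm_mem ha hc)]

theorem comm_swap {a b : G} (ha : a ∈ D.P) (hb : b ∈ D.P) : ⁅a, b⁆ = ⁅b, a⁆ := by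
  rw [← D.inv_V (D.comm_mem hb ha), commutatorElement_inv]

theorem comm_mul_right' {a b c : G} (ha : a ∈ D.P) (hb : b ∈ D.P) (hc : c ∈ D.P) :
    ⁅a, b * c⁆ = ⁅a, b⁆ * ⁅a, c⁆ := by
  rw [D.comm_swap ha (mul_mem hb hc), D.comm_mul_left' hb hc ha, D.comm_swap hb ha,
    D.comm_swap hc ha]

theorem sq_mem {p : G} (hp : p ∈ D.P) : p * p ∈ D.V := by
  refine D.center_P (mul_mem hp hp) fun q hq => commute_of_comm_eq_one ?_
  rw [D.comm_mul_left' hp hp hq, D.sq_V (D.comm_mem hp hq)]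

theorem centralizer_P {x : G} (hx : x ∈ D.M) (h : ∀ p ∈ D.P, x * p = p * x) : x ∈ D.V := by
  let K : Subgroup G := D.M ⊓ Subgroup.centralizer (D.P : Set G)
  have hK2 : IsPGroup 2 K := by
    refine isPGroup_two_of_odd fun y hy hodd => ?_
    have hyQ : ∀ q ∈ D.Q, y * q = q * y := by
      intro q hq
      set v := y * q * y⁻¹ * q⁻¹ with hv
      have hvQ : v ∈ D.Q := mul_mem (D.hQn y hy.1 q hq) (inv_mem hq)
      have hvc : ∀ p ∈ D.P, v * p = p * v := by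
        intro p hp
        have hp1 : q⁻¹ * p * q ∈ D.P := by simpa using D.conj_P (inv_mem (D.hQM hq)) hp
        have hyp : y⁻¹ * (q⁻¹ * p * q) * y = q⁻¹ * p * q := by
          rw [mul_assoc, hy.2 _ hp1, inv_mul_cancel_left]
        have hyp2 : y * p * y⁻¹ = p := by rw [← hy.2 p hp, mul_inv_cancel_right]
        calc v * p = y * q * (y⁻¹ * (q⁻¹ * p * q) * y) * y⁻¹ * q⁻¹ := by rw [hv]; group
          _ = y * p * y⁻¹ * v := by rw [hyp, hv]; group
          _ = p * v := by rw [hyp2]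
      have hvP : v ∈ D.P := D.mem_P hvQ fun w hw => hvc w (D.V_le_P hw)
      have hvV := D.center_P hvP hvc
      have hyv : y * v = v * y := (hy.2 v (D.V_le_P hvV)).symm
      have h1 := eq_one_of_shift (x := y) (q := q) (v := v) hodd (by rw [hv]; group) hyv
        (D.sq_V hvV)
      rw [hv, mul_inv_eq_one, mul_inv_eq_iff_eq_mul] at h1
      exact h1
    obtain ⟨i, hi⟩ := D.hQp ⟨y, D.hQc y hy.1 hyQ⟩
    have hi' : y ^ 2 ^ i = 1 := congrArg Subtype.val hi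
    have h1 := Nat.Coprime.eq_one_of_dvd
      ((Nat.coprime_two_right.2 hodd).pow_right i) (orderOf_dvd_of_pow_eq_one hi')
    exact orderOf_eq_one_iff.1 h1
  have hKQ : K ≤ D.Q := by
    refine D.hQmax K inf_le_left ?_ hK2
    rintro m hm k ⟨hk, hkc⟩
    refine ⟨show m * k * m⁻¹ ∈ D.M from mul_mem (mul_mem hm hk) (inv_mem hm), fun p hp => ?_⟩
    have hp' : m⁻¹ * p * m ∈ D.P := by simpa using D.conj_P (inv_mem hm) hp
    calc p * (m * k * m⁻¹) = m * ((m⁻¹ * p * m) * k) * m⁻¹ := by group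
      _ = m * (k * (m⁻¹ * p * m)) * m⁻¹ := by rw [hkc _ hp']
      _ = m * k * m⁻¹ * p := by group
  have hxQ : x ∈ D.Q := hKQ ⟨hx, fun p hp => (h p hp).symm⟩
  exact D.center_P (D.mem_P hxQ fun v hv => h v (D.V_le_P hv)) h

/-! ### Conjugates of `V` inside `P` -/

/-- `g` gives a conjugate of `V` different from `V` inside `P`. -/
def Good (g : G) : Prop := cj g D.V ≠ D.V ∧ cj g D.V ≤ D.P

variable {D}

theorem mem_cj_sq {g u : G} (hu : u ∈ cj g D.V) : u * u = 1 := by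
  have h := D.sq_V (mem_cj.1 hu)
  have h2 := congrArg (fun z => g * z * g⁻¹) h
  simpa [mul_assoc] using h2

theorem mem_cj_comm {g u w : G} (hu : u ∈ cj g D.V) (hw : w ∈ cj g D.V) : u * w = w * u := by
  have h := D.comm_V (mem_cj.1 hu) (mem_cj.1 hw)
  have h2 := congrArg (fun z => g * z * g⁻¹) h
  simpa [mul_assoc] using h2

theorem eq_one_of_mem_both {g a : G} (hg : cj g D.V ≠ D.V) (ha : a ∈ cj g D.V) (hb : a ∈ D.V) :
    a = 1 := by
  by_contra h
  exact hg (D.eq_of_mem_cj ha hb h)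

/-- A conjugate of `V` inside `Q` centralizes `V`. -/
theorem good_of_le_Q {g : G} (hg : cj g D.V ≠ D.V) (hgQ : cj g D.V ≤ D.Q) : D.Good g := by
  refine ⟨hg, fun u hu => D.mem_P (hgQ hu) fun v hv => ?_⟩
  by_contra hne
  -- `A = C_V(cj g V)` is the centralizer in `V` of each nontrivial element
  have hall : ∀ a ∈ D.V, ∀ w ∈ cj g D.V, w ≠ 1 → a * w = w * a →
      ∀ w' ∈ cj g D.V, a * w' = w' * a := by
    intro a ha w hw hw1 hc w' hw'
    have hfix : cj a (cj g D.V) = cj g D.V := by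
      rw [← cj_mul]
      refine D.cj_eq_cj (a := w) ?_ hw hw1
      rw [cj_mul, mem_cj, show a⁻¹ * w * a = w by rw [mul_assoc, ← hc, inv_mul_cancel_left]]
      exact hw
    have h1 : ⁅w', a⁆ ∈ cj g D.V := by
      rw [commutatorElement_def, show w' * a * w'⁻¹ * a⁻¹ = w' * (a * w'⁻¹ * a⁻¹) by group]
      exact mul_mem hw' (hfix ▸ conj_mem_cj (inv_mem hw'))
    have h2 : ⁅w', a⁆ ∈ D.V := by
      rw [commutatorElement_def]
      exact mul_mem (D.conj_V (D.hQM (hgQ hw')) ha) (inv_mem ha)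
    exact (commute_of_comm_eq_one (eq_one_of_mem_both hg h1 h2)).symm
  have hu1 : u ≠ 1 := by rintro rfl; exact hne (by rw [one_mul, mul_one])
  let A : Subgroup G := D.V ⊓ Subgroup.centralizer (cj g D.V : Set G)
  have hvA : v ∉ A := fun h => hne (h.2 u hu)
  have himg : ∀ w ∈ cj g D.V, ⁅w, v⁆ ∈ A := by
    intro w hw
    have hV' : ⁅w, v⁆ ∈ D.V := by
      rw [commutatorElement_def]
      exact mul_mem (D.conj_V (D.hQM (hgQ hw)) hv) (inv_mem hv)
    refine ⟨hV', ?_⟩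
    by_cases hw1 : w = 1
    · subst hw1; rw [commutatorElement_one_left]; exact one_mem _
    have hc : ⁅w, v⁆ * w = w * ⁅w, v⁆ := by
      have hwi : w⁻¹ = w := inv_eq_of_mul_eq_one_right (mem_cj_sq hw)
      have hd : w * v * w⁻¹ ∈ D.V := D.conj_V (D.hQM (hgQ hw)) hv
      calc ⁅w, v⁆ * w = (w * v * w⁻¹) * v * w := by rw [commutatorElement_def, D.inv_V hv]
        _ = v * (w * v * w⁻¹) * w := by rw [D.comm_V hd hv]
        _ = v * w * v := by group
        _ = w * ((w * v * w⁻¹) * v) := by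
            rw [hwi, ← mul_assoc w (w * v * w) v, show w * (w * v * w) = v * w by
              rw [← mul_assoc, ← mul_assoc, mem_cj_sq hw, one_mul]]
        _ = w * ⁅w, v⁆ := by rw [commutatorElement_def, D.inv_V hv]
    exact fun w' hw' => (hall _ hV' w hw hw1 hc w' hw').symm
  have hinj : Function.Injective (fun w : cj g D.V => (⟨⁅(w : G), v⁆, himg w w.2⟩ : A)) := by
    rintro ⟨w, hw⟩ ⟨w', hw'⟩ h
    have h' : ⁅w, v⁆ = ⁅w', v⁆ := congrArg Subtype.val h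
    by_contra hne'
    apply hvA
    refine ⟨hv, ?_⟩
    have hww : w⁻¹ * w' ≠ 1 := fun h1 => hne' (Subtype.ext (inv_mul_eq_one.1 h1))
    have hc : v * (w⁻¹ * w') = w⁻¹ * w' * v := by
      rw [commutatorElement_def, commutatorElement_def, mul_left_inj] at h'
      have h3 := congrArg (fun z => w⁻¹ * z * w') h'
      simpa [mul_assoc] using h3
    exact fun w'' hw'' =>
      (hall v hv _ (mul_mem (inv_mem hw) hw') hww hc w'' hw'').symm
  have h1 := Nat.card_le_card_of_injective _ hinj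
  rw [card_cj] at h1
  have e : A = D.V := Subgroup.eq_of_le_of_card_ge inf_le_left h1
  exact hvA (e.symm ▸ hv)

theorem Good.commute_V {g u v : G} (hg : D.Good g) (hu : u ∈ cj g D.V) (hv : v ∈ D.V) :
    u * v = v * u := D.commute_P_V (hg.2 hu) hv

theorem Good.mul {g m : G} (hg : D.Good g) (hm : m ∈ D.M) : D.Good (m * g) := by
  refine ⟨fun h => hg.1 ?_, ?_⟩
  · rw [← cj_one (cj g D.V), ← inv_mul_cancel m, cj_mul, ← cj_mul m g, h, D.mem_M.1 (inv_mem hm)]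
  · rw [cj_mul]; exact (cj_mono hg.2).trans (D.cj_P_eq hm).le

/-- An element of `P` commutes with all or none of the nontrivial elements. -/
theorem Good.comm_all {g p w : G} (hg : D.Good g) (hp : p ∈ D.P) (hw : w ∈ cj g D.V) (hw1 : w ≠ 1)
    (h : p * w = w * p) : ∀ u ∈ cj g D.V, p * u = u * p := by
  intro u hu
  have hfix : cj p (cj g D.V) = cj g D.V := by
    rw [← cj_mul]
    refine D.cj_eq_cj (a := w) ?_ hw hw1
    rw [cj_mul, mem_cj, show p⁻¹ * w * p = w by rw [mul_assoc, ← h, inv_mul_cancel_left]]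
    exact hw
  refine commute_of_comm_eq_one (eq_one_of_mem_both hg.1 ?_ (D.comm_mem hp (hg.2 hu)))
  rw [commutatorElement_def]
  exact mul_mem (hfix ▸ conj_mem_cj hu) (inv_mem hu)

/-- An element not commuting with `cj g V` maps it onto `V`. -/
theorem Good.onto {g p : G} (hg : D.Good g) (hp : p ∈ D.P)
    (h : ∃ u ∈ cj g D.V, p * u ≠ u * p) {v : G} (hv : v ∈ D.V) :
    ∃ u ∈ cj g D.V, ⁅p, u⁆ = v := by
  let f : cj g D.V → D.V := fun u => ⟨⁅p, (u : G)⁆, D.comm_mem hp (hg.2 u.2)⟩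
  have hinj : Function.Injective f := by
    rintro ⟨a, ha⟩ ⟨b, hb⟩ hab
    have hab' : ⁅p, a⁆ = ⁅p, b⁆ := congrArg Subtype.val hab
    by_contra hne
    obtain ⟨u, hu, hpu⟩ := h
    apply hpu
    refine hg.comm_all hp (mul_mem ha hb) ?_ ?_ u hu
    · intro h1; apply hne; apply Subtype.ext
      calc a = a * (b * b) := by rw [mem_cj_sq hb, mul_one]
        _ = b := by rw [← mul_assoc, h1, one_mul]
    · refine commute_of_comm_eq_one ?_
      rw [D.comm_mul_right' hp (hg.2 ha) (hg.2 hb), hab', D.sq_V (D.comm_mem hp (hg.2 hb))]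
  have hbij := (Nat.bijective_iff_injective_and_card f).2 ⟨hinj, card_cj g D.V⟩
  obtain ⟨u, hu⟩ := hbij.2 ⟨v, hv⟩
  exact ⟨u, u.2, congrArg Subtype.val hu⟩

theorem Good.exists_partner {g : G} (hg : D.Good g) : ∃ g0, D.Good g0 ∧
    ∀ u ∈ cj g0 D.V, u ≠ 1 → ∀ w ∈ cj g D.V, w ≠ 1 → u * w ≠ w * u := by
  by_contra hcon
  push Not at hcon
  have hall : ∀ m1 ∈ D.M, ∀ m2 ∈ D.M, ∀ a ∈ cj (m1 * g) D.V, ∀ b ∈ cj (m2 * g) D.V,
      a * b = b * a := by
    intro m1 hm1 m2 hm2 a ha b hb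
    obtain ⟨u, hu, hu1, w, hw, hw1, huw⟩ :=
      hcon (m1⁻¹ * m2 * g) (hg.mul (mul_mem (inv_mem hm1) hm2))
    have hg0 := hg.mul (mul_mem (inv_mem hm1) hm2)
    have hall1 := hg.comm_all (hg0.2 hu) hw hw1 huw
    have ha' : m1⁻¹ * a * m1 ∈ cj g D.V := by
      rw [cj_mul, mem_cj] at ha; exact ha
    have hb' : m1⁻¹ * b * m1 ∈ cj (m1⁻¹ * m2 * g) D.V := by
      rw [mem_cj] at hb ⊢; simpa [mul_assoc] using hb
    have hc := hg0.comm_all (hg.2 ha') hu hu1 (hall1 _ ha').symm _ hb'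
    have h2 := congrArg (fun z => m1 * z * m1⁻¹) hc
    simpa [mul_assoc] using h2
  let C : Subgroup G := ⨆ m : D.M, cj ((m : G) * g) D.V
  have hCP : C ≤ D.P := iSup_le fun m => (hg.mul m.2).2
  have hCV : C ≤ D.V := by
    refine D.le_V (hCP.trans D.P_le_Q) (fun c hc v hv => D.commute_P_V (hCP hc) hv) ?_ ?_
    · have h1 : ∀ m : D.M, cj ((m : G) * g) D.V ≤ Subgroup.centralizer (C : Set G) := by
        intro m a ha c hc
        have : C ≤ Subgroup.centralizer {a} := iSup_le fun m' b hb => by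
          rw [Subgroup.mem_centralizer_singleton_iff]
          exact hall m'.1 m'.2 m.1 m.2 b hb a ha
        exact Subgroup.mem_centralizer_singleton_iff.1 (this hc)
      intro a ha b hb
      exact (iSup_le h1 hb) a ha
    · intro m hm c hc
      have : cj m C ≤ C := by
        rw [cj, Subgroup.map_iSup]
        refine iSup_le fun m' => ?_
        refine le_trans ?_ (le_iSup (fun m'' : D.M => cj ((m'' : G) * g) D.V) ⟨m * m', mul_mem hm m'.2⟩)
        show cj m (cj _ _) ≤ cj (m * (m' : G) * g) D.V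
        rw [← cj_mul, mul_assoc]
      exact this (conj_mem_cj hc)
  have h1 : cj g D.V ≤ D.V := by
    have := le_iSup (fun m : D.M => cj ((m : G) * g) D.V) 1
    rw [Subgroup.coe_one, one_mul] at this
    exact this.trans hCV
  exact hg.1 (cj_eq_of_le h1)

/-- `⁅P, w⁆ = V` for `w ≠ 1` in a conjugate inside `P`. -/
theorem Good.surj {g w v : G} (hg : D.Good g) (hw : w ∈ cj g D.V) (hw1 : w ≠ 1) (hv : v ∈ D.V) :
    ∃ p ∈ D.P, ⁅p, w⁆ = v := by
  obtain ⟨g0, hg0, hn⟩ := hg.exists_partner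
  by_cases hV : ∀ x ∈ cj g0 D.V, x = 1
  · exfalso
    have h0 : cj g0 D.V = ⊥ := (Subgroup.eq_bot_iff_forall _).2 hV
    have h1 : Nat.card (cj g D.V) = 1 := by
      rw [card_cj, ← card_cj g0 D.V, h0, Subgroup.card_bot]
    exact hw1 (by
      have := Subgroup.eq_bot_of_card_eq _ h1
      rw [this] at hw; exact Subgroup.mem_bot.1 hw)
  push Not at hV
  obtain ⟨x, hx, hx1⟩ := hV
  obtain ⟨u, hu, he⟩ := hg0.onto (hg.2 hw) ⟨x, hx, fun h => hn x hx hx1 w hw hw1 h.symm⟩ hv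
  exact ⟨u, hg0.2 hu, by rw [D.comm_swap (hg0.2 hu) (hg.2 hw), he]⟩

/-- The center of `C_P(cj g V)`. -/
theorem Good.center_D {g x : G} (hg : D.Good g) (hx : x ∈ D.P)
    (hxU : ∀ u ∈ cj g D.V, x * u = u * x)
    (hxD : ∀ d ∈ D.P, (∀ u ∈ cj g D.V, d * u = u * d) → x * d = d * x) :
    x ∈ D.V ⊔ cj g D.V := by
  obtain ⟨g0, hg0, hn⟩ := hg.exists_partner
  by_cases hV : ∀ a ∈ cj g D.V, a = 1
  · refine Subgroup.mem_sup_left (D.center_P hx fun d hd => hxD d hd fun u hu => ?_)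
    rw [hV u hu, one_mul, mul_one]
  push Not at hV
  obtain ⟨w0, hw0, hw01⟩ := hV
  have hV0 : ∃ a ∈ cj g0 D.V, a ≠ 1 := by
    by_contra h; push Not at h
    have h0 : cj g0 D.V = ⊥ := (Subgroup.eq_bot_iff_forall _).2 h
    have h1 : Nat.card (cj g D.V) = 1 := by
      rw [card_cj, ← card_cj g0 D.V, h0, Subgroup.card_bot]
    exact hw01 (by
      have := Subgroup.eq_bot_of_card_eq _ h1
      rw [this] at hw0; exact Subgroup.mem_bot.1 hw0)
  obtain ⟨u0, hu0, hu01⟩ := hV0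
  -- decompositions
  have dec : ∀ p ∈ D.P, ∃ a ∈ cj g0 D.V, ∀ u ∈ cj g D.V, (a * p) * u = u * (a * p) := by
    intro p hp
    obtain ⟨a, ha, he⟩ := hg0.onto (hg.2 hw0)
      ⟨u0, hu0, fun h => hn u0 hu0 hu01 w0 hw0 hw01 h.symm⟩ (D.comm_mem hp (hg.2 hw0))
    refine ⟨a, ha, hg.comm_all (mul_mem (hg0.2 ha) hp) hw0 hw01 (commute_of_comm_eq_one ?_)⟩
    rw [D.comm_mul_left' (hg0.2 ha) hp (hg.2 hw0), D.comm_swap (hg0.2 ha) (hg.2 hw0), he,
      D.sq_V (D.comm_mem hp (hg.2 hw0))]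
  obtain ⟨w, hw, he⟩ := hg.onto (hg0.2 hu0) ⟨w0, hw0, hn u0 hu0 hu01 w0 hw0 hw01⟩
    (D.comm_mem (hg0.2 hu0) hx)
  have hc0 : ∀ u ∈ cj g0 D.V, (w * x) * u = u * (w * x) := by
    refine hg0.comm_all (mul_mem (hg.2 hw) hx) hu0 hu01 (commute_of_comm_eq_one ?_)
    rw [D.comm_mul_left' (hg.2 hw) hx (hg0.2 hu0), D.comm_swap (hg.2 hw) (hg0.2 hu0), he,
      D.comm_swap hx (hg0.2 hu0), D.sq_V (D.comm_mem (hg0.2 hu0) hx)]
  have hcV : w * x ∈ D.V := by
    refine D.center_P (mul_mem (hg.2 hw) hx) fun p hp => ?_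
    obtain ⟨a, ha, hac⟩ := dec p hp
    have h1 : Commute (w * x) (a * p) :=
      Commute.mul_left (hac w hw).symm (hxD _ (mul_mem (hg0.2 ha) hp) hac)
    have h2 : Commute (w * x) a := hc0 a ha
    have h3 : Commute (w * x) (a⁻¹ * (a * p)) := h2.inv_right.mul_right h1
    rwa [inv_mul_cancel_left] at h3
  have hxe : x = w * x * w := by
    rw [mul_assoc, hxU w hw, ← mul_assoc, mem_cj_sq hw, one_mul]
  rw [hxe]
  exact mul_mem (Subgroup.mem_sup_left hcV) (Subgroup.mem_sup_right hw)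

/-- `W = V × cj g V`. -/
theorem Good.mem_W {g x : G} (hg : D.Good g) :
    x ∈ D.V ⊔ cj g D.V ↔ ∃ v ∈ D.V, ∃ w ∈ cj g D.V, x = v * w :=
  mem_sup_commute fun _ hv _ hw => (hg.commute_V hw hv).symm

theorem Good.W_le_P {g : G} (hg : D.Good g) : D.V ⊔ cj g D.V ≤ D.P := sup_le D.V_le_P hg.2

theorem Good.cj_P_W {g p : G} (hg : D.Good g) (hp : p ∈ D.P) :
    cj p (D.V ⊔ cj g D.V) = D.V ⊔ cj g D.V := by
  apply cj_eq_of_le
  rw [cj_sup, D.mem_M.1 (D.P_le_M hp)]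
  refine sup_le le_sup_left fun a ha => ?_
  have hw := mem_cj.1 ha
  have e : a = ⁅p, p⁻¹ * a * p⁆ * (p⁻¹ * a * p) := by simp only [commutatorElement_def]; group
  rw [e]
  exact mul_mem (Subgroup.mem_sup_left (D.comm_mem hp (hg.2 hw))) (Subgroup.mem_sup_right hw)

/-- Every element of `W` outside `V` lies in a conjugate of `cj g V` under `P`. -/
theorem Good.cover {g x : G} (hg : D.Good g) (hx : x ∈ D.V ⊔ cj g D.V) (hxV : x ∉ D.V) :
    ∃ p ∈ D.P, x ∈ cj (p * g) D.V ∧ cj (p * g) D.V ≤ D.V ⊔ cj g D.V := by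
  obtain ⟨v, hv, w, hw, rfl⟩ := hg.mem_W.1 hx
  have hw1 : w ≠ 1 := by rintro rfl; rw [mul_one] at hxV; exact hxV hv
  obtain ⟨p, hp, he⟩ := hg.surj hw hw1 hv
  refine ⟨p, hp, ?_, ?_⟩
  · rw [cj_mul]
    have : v * w = p * w * p⁻¹ := by rw [← he]; simp only [commutatorElement_def]; group
    rw [this]; exact conj_mem_cj hw
  · rw [cj_mul]
    exact (cj_mono le_sup_right).trans (hg.cj_P_W hp).le

/-- Uniqueness and existence of the line through an element of `W`. -/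
theorem Good.unique_line {g w : G} (hg : D.Good g) (hw : w ∈ D.V ⊔ cj g D.V) (hw1 : w ≠ 1) :
    ∃! U : Subgroup G, (∃ x : G, U = cj x D.V) ∧ U ≤ D.V ⊔ cj g D.V ∧ w ∈ U := by
  by_cases hV : w ∈ D.V
  · refine ⟨D.V, ⟨⟨1, (cj_one _).symm⟩, le_sup_left, hV⟩, ?_⟩
    rintro U ⟨⟨x, rfl⟩, -, hwU⟩
    exact D.eq_of_mem_cj hwU hV hw1
  · obtain ⟨p, hp, hmem, hle⟩ := hg.cover hw hV
    refine ⟨cj (p * g) D.V, ⟨⟨_, rfl⟩, hle, hmem⟩, ?_⟩
    rintro U ⟨⟨x, rfl⟩, -, hwU⟩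
    exact D.cj_eq_cj hwU hmem hw1

theorem Good.le_W {g x a : G} (hg : D.Good g) (ha : a ∈ cj x D.V) (ha1 : a ≠ 1)
    (haW : a ∈ D.V ⊔ cj g D.V) : cj x D.V ≤ D.V ⊔ cj g D.V := by
  obtain ⟨U, ⟨⟨y, rfl⟩, hle, haU⟩, -⟩ := hg.unique_line haW ha1
  rwa [D.cj_eq_cj ha haU ha1]

variable (D) in
theorem transport_comm {g a b : G} (ha : a ∈ cj g D.P) (hb : b ∈ cj g D.P) :
    ⁅a, b⁆ ∈ cj g D.V := by
  rw [mem_cj] at ha hb ⊢
  have := D.comm_mem ha hb
  rw [show g⁻¹ * ⁅a, b⁆ * g = ⁅g⁻¹ * a * g, g⁻¹ * b * g⁆ by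
    simp only [commutatorElement_def]; group]
  exact this

variable (D) in
theorem transport_center {g x : G} (hx : x ∈ cj g D.P)
    (h : ∀ r ∈ cj g D.P, x * r = r * x) : x ∈ cj g D.V := by
  rw [mem_cj] at hx ⊢
  refine D.center_P hx fun p hp => ?_
  have h2 := congrArg (fun z => g⁻¹ * z * g) (h _ (conj_mem_cj (x := g) hp))
  simpa [mul_assoc] using h2

variable (D) in
theorem transport_commute {g r w : G} (hr : r ∈ cj g D.P) (hw : w ∈ cj g D.V) :
    r * w = w * r := by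
  rw [mem_cj] at hr hw
  have h2 := congrArg (fun z => g * z * g⁻¹) (D.commute_P_V hr hw)
  simpa [mul_assoc] using h2

variable (D) in
theorem transport_sq {g r : G} (hr : r ∈ cj g D.P) : r * r ∈ cj g D.V := by
  rw [mem_cj] at hr ⊢
  have := D.sq_mem hr
  simpa [mul_assoc] using this

variable (D) in
/-- An element centralizing `cj g V` normalizes `cj g P`. -/
theorem transport_norm {g x : G} (h : ∀ w ∈ cj g D.V, x * w = w * x) {r : G}
    (hr : r ∈ cj g D.P) : x * r * x⁻¹ ∈ cj g D.P := by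
  have hfix : cj x (cj g D.V) = cj g D.V := by
    apply cj_eq_of_le
    intro a ha
    have hb := mem_cj.1 ha
    rwa [show a = x * (x⁻¹ * a * x) * x⁻¹ by group, h _ hb, mul_inv_cancel_right]
  have he : cj (x * g) D.P = cj g D.P := D.cj_P_eq_of (by rw [cj_mul, hfix])
  rw [← he, cj_mul]; exact conj_mem_cj hr

/-- Some element of `cj g P` moves `V` inside `W`. -/
theorem Good.exists_moving {g : G} (hg : D.Good g) (hV1 : ∃ v ∈ D.V, v ≠ 1) :
    ∃ y ∈ cj g D.P, cj y D.V ≠ D.V ∧ cj y D.V ≤ D.V ⊔ cj g D.V := by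
  by_contra hcon
  push Not at hcon
  -- an element `y` of `cj g P` with `⁅y, v⁆ ∈ cj g V` centralizes `V`
  have star0 : ∀ y ∈ cj g D.P, ∀ v ∈ D.V, v ≠ 1 → ⁅y, v⁆ ∈ cj g D.V →
      y ∈ D.M ∧ y * v = v * y := by
    intro y hy v hv hv1 hc
    have hmem : y * v * y⁻¹ ∈ D.V ⊔ cj g D.V := by
      rw [show y * v * y⁻¹ = ⁅y, v⁆ * v by simp only [commutatorElement_def]; group]
      exact mul_mem (Subgroup.mem_sup_right hc) (Subgroup.mem_sup_left hv)
    have hyM : y ∈ D.M := by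
      by_contra hyM
      exact hcon y hy (fun h => hyM (D.mem_M.2 h))
        (hg.le_W (conj_mem_cj hv) (fun he => hv1 (conj_eq_one_iff.1 he)) hmem)
    refine ⟨hyM, commute_of_comm_eq_one (eq_one_of_mem_both hg.1 hc ?_)⟩
    rw [commutatorElement_def]
    exact mul_mem (D.conj_V hyM hv) (inv_mem hv)
  have hVn : ∀ v ∈ D.V, ∀ r ∈ cj g D.P, v * r * v⁻¹ ∈ cj g D.P := fun v hv r hr =>
    D.transport_norm (fun w hw => (hg.commute_V hw hv).symm) hr
  -- `V ∩ cj g P = 1`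
  have hB : ∀ b ∈ D.V, b ∈ cj g D.P → b = 1 := by
    intro b hb hbR
    by_contra hb1
    have : b ∈ cj g D.V := D.transport_center hbR fun y hy =>
      ((star0 y hy b hb hb1 (D.transport_comm hy hbR)).2).symm
    exact hb1 (eq_one_of_mem_both hg.1 this hb)
  have hE : ∀ e ∈ cj g D.P, e ∈ D.M → ∀ v ∈ D.V, e * v = v * e := by
    intro e he heM v hv
    refine commute_of_comm_eq_one (hB _ ?_ ?_)
    · rw [commutatorElement_def]; exact mul_mem (D.conj_V heM hv) (inv_mem hv)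
    · rw [commutatorElement_def, show e * v * e⁻¹ * v⁻¹ = e * (v * e⁻¹ * v⁻¹) by group]
      exact mul_mem he (hVn v hv _ (inv_mem he))
  have star : ∀ y ∈ cj g D.P, ∀ v ∈ D.V, v ≠ 1 → ⁅y, v⁆ ∈ cj g D.V →
      ∀ v' ∈ D.V, y * v' = v' * y :=
    fun y hy v hv hv1 hc => hE y hy (star0 y hy v hv hv1 hc).1
  -- `⁅r, v⁆` centralizes `V`
  have hrv : ∀ r ∈ cj g D.P, ∀ v ∈ D.V, ∀ v' ∈ D.V, ⁅r, v⁆ * v' = v' * ⁅r, v⁆ := by
    intro r hr v hv
    by_cases hv1 : v = 1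
    · subst hv1; intro v' hv'; rw [commutatorElement_one_right, one_mul, mul_one]
    have hs : ⁅r, v⁆ ∈ cj g D.P := by
      rw [commutatorElement_def, show r * v * r⁻¹ * v⁻¹ = r * (v * r⁻¹ * v⁻¹) by group]
      exact mul_mem hr (hVn v hv _ (inv_mem hr))
    refine star _ hs v hv hv1 ?_
    have hvi : v⁻¹ = v := D.inv_V hv
    rw [show ⁅⁅r, v⁆, v⁆ = ⁅r, v⁆ * (v * ⁅r, v⁆⁻¹ * v⁻¹) by simp only [commutatorElement_def]; group]
    have h2 : v * ⁅r, v⁆⁻¹ * v⁻¹ = ⁅r, v⁆ := by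
      simp only [commutatorElement_def, mul_inv_rev, inv_inv, hvi]
      simp only [← mul_assoc, D.sq_V hv, one_mul]
    rw [h2]; exact D.transport_sq hs
  -- `d` centralizes `e` modulo `cj g V`
  have hDE : ∀ d ∈ D.P, (∀ u ∈ cj g D.V, d * u = u * d) →
      ∀ e ∈ cj g D.P, (∀ v ∈ D.V, e * v = v * e) → ⁅d, e⁆ ∈ cj g D.V := by
    intro d hd hdU e he heV
    have heU : ∀ u ∈ cj g D.V, e * u = u * e := fun u hu => D.transport_commute he hu
    have heM : e ∈ D.M := D.mem_M.2 (cj_eq_of_le (by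
      intro a ha
      have hb := mem_cj.1 ha
      rwa [show a = e * (e⁻¹ * a * e) * e⁻¹ by group, heV _ hb, mul_inv_cancel_right]))
    have hIP : ⁅d, e⁆ ∈ D.P := by
      rw [commutatorElement_def, show d * e * d⁻¹ * e⁻¹ = d * (e * d⁻¹ * e⁻¹) by group]
      exact mul_mem hd (D.conj_P heM (inv_mem hd))
    have hIR : ⁅d, e⁆ ∈ cj g D.P := by
      rw [commutatorElement_def]; exact mul_mem (D.transport_norm hdU he) (inv_mem he)
    have hW : ⁅d, e⁆ ∈ D.V ⊔ cj g D.V := by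
      refine hg.center_D hIP (fun u hu => D.transport_commute hIR hu) fun d' hd' hd'U => ?_
      refine commute_of_comm_eq_one (hB _ (D.comm_mem hIP hd') ?_)
      rw [commutatorElement_def,
        show ⁅d, e⁆ * d' * ⁅d, e⁆⁻¹ * d'⁻¹ = ⁅d, e⁆ * (d' * ⁅d, e⁆⁻¹ * d'⁻¹) by group]
      exact mul_mem hIR (D.transport_norm hd'U (inv_mem hIR))
    obtain ⟨v, hv, w, hw, hvw⟩ := hg.mem_W.1 hW
    have hvR : v ∈ cj g D.P := by
      have : v = ⁅d, e⁆ * w⁻¹ := by rw [hvw, mul_inv_cancel_right]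
      rw [this]; exact mul_mem hIR (inv_mem (cj_mono D.V_le_P hw))
    rw [hvw, hB v hv hvR, one_mul]; exact hw
  -- hence `⁅d, r⁆` centralizes `V`
  have hdr : ∀ d ∈ D.P, (∀ u ∈ cj g D.V, d * u = u * d) →
      ∀ r ∈ cj g D.P, ∀ v ∈ D.V, ⁅d, r⁆ * v = v * ⁅d, r⁆ := by
    intro d hd hdU r hr
    have hx : ⁅d, r⁆ ∈ cj g D.P := by
      rw [commutatorElement_def]; exact mul_mem (D.transport_norm hdU hr) (inv_mem hr)
    -- it commutes with every element centralizing `V`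
    have hxE : ∀ e ∈ cj g D.P, (∀ v ∈ D.V, e * v = v * e) → ⁅d, r⁆ * e = e * ⁅d, r⁆ := by
      intro e he heV
      apply commute_of_comm_eq_one
      obtain ⟨w, hw, hwe⟩ : ∃ w ∈ cj g D.V, d * e * d⁻¹ = w * e :=
        ⟨⁅d, e⁆, hDE d hd hdU e he heV, by simp only [commutatorElement_def]; group⟩
      have hr' : d * r * d⁻¹ ∈ cj g D.P := D.transport_norm hdU hr
      have hc := D.transport_comm hr he
      have hfix : d * ⁅r, e⁆ * d⁻¹ = ⁅r, e⁆ := by rw [hdU _ hc, mul_inv_cancel_right]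
      rw [conj_comm, hwe] at hfix
      have h2 : ⁅d * r * d⁻¹, e⁆ = ⁅r, e⁆ := by
        have hc' : ⁅d * r * d⁻¹, e⁆ ∈ cj g D.P := by
          rw [commutatorElement_def]
          exact mul_mem (mul_mem (mul_mem hr' he) (inv_mem hr')) (inv_mem he)
        rw [← hfix]
        rw [show ⁅d * r * d⁻¹, w * e⁆ = ⁅d * r * d⁻¹, w⁆ * (w * ⁅d * r * d⁻¹, e⁆ * w⁻¹) by
          simp only [commutatorElement_def]; group,
          comm_eq_one_of_commute (D.transport_commute hr' hw), one_mul,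
          ← D.transport_commute hc' hw, mul_inv_cancel_right]
      rw [show ⁅⁅d, r⁆, e⁆ = ⁅d * r * d⁻¹ * r⁻¹, e⁆ by rw [commutatorElement_def d r],
        show ⁅d * r * d⁻¹ * r⁻¹, e⁆ = (d * r * d⁻¹) * ⁅r⁻¹, e⁆ * (d * r * d⁻¹)⁻¹ * ⁅d * r * d⁻¹, e⁆ by
          simp only [commutatorElement_def]; group,
        D.transport_commute hr' (D.transport_comm (inv_mem hr) he), mul_inv_cancel_right, h2]
      rw [show ⁅r⁻¹, e⁆ = r⁻¹ * ⁅r, e⁆⁻¹ * r by simp only [commutatorElement_def]; group,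
        D.transport_commute (inv_mem hr) (inv_mem hc), inv_mul_cancel_right, inv_mul_cancel]
    intro v hv
    by_cases hv1 : v = 1
    · subst hv1; rw [one_mul, mul_one]
    refine star _ hx v hv hv1 ?_ v hv
    refine D.transport_center ?_ fun r' hr' => commute_of_comm_eq_one ?_
    · rw [show ⁅⁅d, r⁆, v⁆ = ⁅d, r⁆ * (v * ⁅d, r⁆⁻¹ * v⁻¹) by simp only [commutatorElement_def]; group]
      exact mul_mem hx (hVn v hv _ (inv_mem hx))
    · set x := ⁅d, r⁆ with hxd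
      have hvi : v⁻¹ = v := D.inv_V hv
      set s := v * r' * v⁻¹ with hsd
      have hs : s ∈ cj g D.P := hVn v hv r' hr'
      have hsr : ∀ v' ∈ D.V, (r'⁻¹ * s) * v' = v' * (r'⁻¹ * s) := by
        intro v' hv'
        have h := hrv r'⁻¹ (inv_mem hr') v hv v' hv'
        have e1 : ⁅r'⁻¹, v⁆ = r'⁻¹ * s := by rw [hsd, commutatorElement_def]; group
        rwa [e1] at h
      have hxs : x * (r'⁻¹ * s) = (r'⁻¹ * s) * x := hxE _ (mul_mem (inv_mem hr') hs) hsr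
      have hcs : ⁅x, s⁆ = ⁅x, r'⁆ := by
        calc ⁅x, s⁆ = ⁅x, r' * (r'⁻¹ * s)⁆ := by rw [mul_inv_cancel_left]
          _ = ⁅x, r'⁆ * (r' * ⁅x, r'⁻¹ * s⁆ * r'⁻¹) := by simp only [commutatorElement_def]; group
          _ = ⁅x, r'⁆ := by rw [comm_eq_one_of_commute hxs, mul_one, mul_inv_cancel, mul_one]
      have hcc := D.transport_comm hx hr'
      have hvc : v * ⁅x, r'⁆ * v⁻¹ = ⁅x, r'⁆ := by
        rw [← hg.commute_V hcc hv, mul_inv_cancel_right]
      -- `⁅v x v, r'⁆ = ⁅x, r'⁆`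
      have h1 : ⁅v * x * v⁻¹, r'⁆ = ⁅x, r'⁆ := by
        have he : r' = v * s * v⁻¹ := by
          rw [hsd, hvi]; simp only [← mul_assoc, D.sq_V hv, one_mul]
          rw [mul_assoc, D.sq_V hv, mul_one]
        conv_lhs => rw [he, ← conj_comm, hcs, hvc]
      have hvx : v * x⁻¹ * v⁻¹ ∈ cj g D.P := hVn v hv _ (inv_mem hx)
      rw [show ⁅⁅x, v⁆, r'⁆ = ⁅x * (v * x⁻¹ * v⁻¹), r'⁆ by
          rw [commutatorElement_def x v]; simp only [mul_assoc],
        show ⁅x * (v * x⁻¹ * v⁻¹), r'⁆ = x * ⁅v * x⁻¹ * v⁻¹, r'⁆ * x⁻¹ * ⁅x, r'⁆ by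
          simp only [commutatorElement_def]; group,
        D.transport_commute hx (D.transport_comm hvx hr'), mul_inv_cancel_right]
      rw [show v * x⁻¹ * v⁻¹ = (v * x * v⁻¹)⁻¹ by group,
        show ⁅(v * x * v⁻¹)⁻¹, r'⁆ = (v * x * v⁻¹)⁻¹ * ⁅v * x * v⁻¹, r'⁆⁻¹ * (v * x * v⁻¹) by
          simp only [commutatorElement_def]; group, h1,
        D.transport_commute (inv_mem (hVn v hv x hx)) (inv_mem hcc), inv_mul_cancel_right,
        inv_mul_cancel]
  -- not every element of `cj g P` centralizes `V`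
  have hne : ∀ v ∈ D.V, (∀ r ∈ cj g D.P, ⁅r, v⁆ ∈ cj g D.V) → v = 1 := by
    intro v hv h
    by_contra hv1
    have hall : ∀ r ∈ cj g D.P, ∀ v' ∈ D.V, r * v' = v' * r := fun r hr =>
      star r hr v hv hv1 (h r hr)
    have hvM : g⁻¹ * v * g ∈ D.M := by
      refine D.mem_M.2 ?_
      have h1 : cj v (cj g D.V) = cj g D.V := by
        apply cj_eq_of_le
        intro a ha
        have hb := mem_cj.1 ha
        rwa [show a = v * (v⁻¹ * a * v) * v⁻¹ by group, ← hg.commute_V hb hv, mul_inv_cancel_right]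
      rw [cj_mul, cj_mul, h1, ← cj_mul, inv_mul_cancel, cj_one]
    have h2 : g⁻¹ * v * g ∈ D.V := by
      refine D.centralizer_P hvM fun p hp => ?_
      have h3 := congrArg (fun z => g⁻¹ * z * g) (hall _ (conj_mem_cj (x := g) hp) v hv)
      simpa [mul_assoc] using h3.symm
    exact hv1 (eq_one_of_mem_both hg.1 (mem_cj.2 h2) hv)
  -- `C_P(cj g V)` is abelian
  have hDab : ∀ d1 ∈ D.P, (∀ u ∈ cj g D.V, d1 * u = u * d1) → ∀ d2 ∈ D.P,
      (∀ u ∈ cj g D.V, d2 * u = u * d2) → d1 * d2 = d2 * d1 := by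
    intro d1 h1 h1U d2 h2 h2U
    apply commute_of_comm_eq_one
    refine hne _ (D.comm_mem h1 h2) fun r hr => ?_
    have hN : ∀ x y : G, x * y⁻¹ ∈ cj g D.V → ∀ d : G, (∀ u ∈ cj g D.V, d * u = u * d) →
        (d * x * d⁻¹) * (d * y * d⁻¹)⁻¹ ∈ cj g D.V := by
      intro x y h d hd
      rw [show (d * x * d⁻¹) * (d * y * d⁻¹)⁻¹ = d * (x * y⁻¹) * d⁻¹ by group, hd _ h,
        mul_inv_cancel_right]
      exact h
    -- the two images
    set a1 := ⁅d1, r⁆ with ha1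
    set a2 := ⁅d2, r⁆ with ha2
    have ha1R : a1 ∈ cj g D.P := by
      rw [ha1, commutatorElement_def]; exact mul_mem (D.transport_norm h1U hr) (inv_mem hr)
    have ha2R : a2 ∈ cj g D.P := by
      rw [ha2, commutatorElement_def]; exact mul_mem (D.transport_norm h2U hr) (inv_mem hr)
    have b1 : ⁅d1, a2⁆ ∈ cj g D.V := hDE d1 h1 h1U a2 ha2R (hdr d2 h2 h2U r hr)
    have b2 : ⁅d2, a1⁆ ∈ cj g D.V := hDE d2 h2 h2U a1 ha1R (hdr d1 h1 h1U r hr)
    have e12 : d1 * d2 * r * (d1 * d2)⁻¹ = ⁅d1, a2⁆ * (a2 * (a1 * r)) := by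
      rw [ha1, ha2]; simp only [commutatorElement_def]; group
    have e21 : d2 * d1 * r * (d2 * d1)⁻¹ = ⁅d2, a1⁆ * (a1 * (a2 * r)) := by
      rw [ha1, ha2]; simp only [commutatorElement_def]; group
    have hcomm : a2 * (a1 * r) * (a1 * (a2 * r))⁻¹ ∈ cj g D.V := by
      rw [show a2 * (a1 * r) * (a1 * (a2 * r))⁻¹ = ⁅a2, a1⁆ by
        simp only [commutatorElement_def]; group]
      exact D.transport_comm ha2R ha1R
    have hdiff : (d1 * d2 * r * (d1 * d2)⁻¹) * (d2 * d1 * r * (d2 * d1)⁻¹)⁻¹ ∈ cj g D.V := by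
      rw [e12, e21, show ⁅d1, a2⁆ * (a2 * (a1 * r)) * (⁅d2, a1⁆ * (a1 * (a2 * r)))⁻¹ =
        ⁅d1, a2⁆ * (a2 * (a1 * r) * (a1 * (a2 * r))⁻¹) * ⁅d2, a1⁆⁻¹ by group]
      exact mul_mem (mul_mem b1 hcomm) (inv_mem b2)
    have h21 : ∀ u ∈ cj g D.V, (d2 * d1)⁻¹ * u = u * (d2 * d1)⁻¹ := by
      intro u hu
      exact (Commute.mul_left (h2U u hu) (h1U u hu)).inv_left.eq
    have h3 := hN _ _ hdiff _ h21
    rw [inv_inv, show (d2 * d1)⁻¹ * (d2 * d1 * r * (d2 * d1)⁻¹) * (d2 * d1) = r by group,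
      show (d2 * d1)⁻¹ * (d1 * d2 * r * (d1 * d2)⁻¹) * (d2 * d1) =
        ⁅d1⁻¹, d2⁻¹⁆ * r * ⁅d1⁻¹, d2⁻¹⁆⁻¹ by simp only [commutatorElement_def]; group] at h3
    have hinv : ⁅d1⁻¹, d2⁻¹⁆ = ⁅d1, d2⁆ := by
      have q1 : ∀ a b : G, a ∈ D.P → b ∈ D.P → ⁅a⁻¹, b⁆ = ⁅a, b⁆ := by
        intro a b ha hb
        rw [show ⁅a⁻¹, b⁆ = a⁻¹ * ⁅a, b⁆⁻¹ * a by simp only [commutatorElement_def]; group,
          D.inv_V (D.comm_mem ha hb), D.commute_P_V (inv_mem ha) (D.comm_mem ha hb),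
          inv_mul_cancel_right]
      rw [q1 _ _ h1 (inv_mem h2), D.comm_swap h1 (inv_mem h2), q1 _ _ h2 h1, D.comm_swap h2 h1]
    rw [hinv] at h3
    have hv := D.comm_mem h1 h2
    rw [show ⁅r, ⁅d1, d2⁆⁆ = (⁅d1, d2⁆ * r * ⁅d1, d2⁆⁻¹ * r⁻¹)⁻¹ by
      simp only [commutatorElement_def]; group]
    exact inv_mem h3
  have hDW : ∀ d ∈ D.P, (∀ u ∈ cj g D.V, d * u = u * d) → d ∈ D.V ⊔ cj g D.V :=
    fun d hd hdU => hg.center_D hd hdU fun d' hd' hd'U => hDab d hd hdU d' hd' hd'U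
  -- `C_{cj g P}(V) = cj g V`
  have hEU : ∀ e ∈ cj g D.P, (∀ v ∈ D.V, e * v = v * e) → e ∈ cj g D.V := by
    intro e he heV
    have heU : ∀ u ∈ cj g D.V, e * u = u * e := fun u hu => D.transport_commute he hu
    have heW : ∀ x ∈ D.V ⊔ cj g D.V, e * x = x * e := by
      intro x hx
      obtain ⟨v, hv, w, hw, rfl⟩ := hg.mem_W.1 hx
      exact (Commute.mul_right (heV v hv) (heU w hw)).eq
    have heM : e ∈ D.M := D.mem_M.2 (cj_eq_of_le (by
      intro a ha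
      have hb := mem_cj.1 ha
      rwa [show a = e * (e⁻¹ * a * e) * e⁻¹ by group, heV _ hb, mul_inv_cancel_right]))
    have hpe : ∀ p ∈ D.P, ⁅e, p⁆ ∈ D.V := by
      intro p hp
      by_cases hpD : ∀ u ∈ cj g D.V, p * u = u * p
      · rw [comm_eq_one_of_commute (heW p (hDW p hp hpD))]; exact one_mem _
      push Not at hpD
      obtain ⟨u0, hu0, hpu0⟩ := hpD
      have hep : e * p * e⁻¹ ∈ D.P := D.conj_P heM hp
      set f := p⁻¹ * (e * p * e⁻¹) with hf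
      have hfP : f ∈ D.P := mul_mem (inv_mem hp) hep
      have hfU : ∀ u ∈ cj g D.V, f * u = u * f := by
        intro u hu
        apply commute_of_comm_eq_one
        have hu2 := hg.2 hu
        have hue : e * u * e⁻¹ = u := by rw [heU u hu, mul_inv_cancel_right]
        have h1 : ⁅e * p * e⁻¹, u⁆ = ⁅p, u⁆ := by
          conv_lhs => rw [← hue, ← conj_comm, heV _ (D.comm_mem hp hu2), mul_inv_cancel_right]
        have h2 : ⁅p * f, u⁆ = ⁅p, u⁆ * ⁅f, u⁆ := D.comm_mul_left' hp hfP hu2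
        rw [show p * f = e * p * e⁻¹ by rw [hf, mul_inv_cancel_left], h1] at h2
        exact mul_eq_left.1 h2.symm
      obtain ⟨v, hv, w, hw, hfvw⟩ := hg.mem_W.1 (hDW f hfP hfU)
      have hpp : p * f * (p * f) = p * p := by
        rw [show p * f = e * p * e⁻¹ by rw [hf, mul_inv_cancel_left],
          show e * p * e⁻¹ * (e * p * e⁻¹) = e * (p * p) * e⁻¹ by group,
          heV _ (D.sq_mem hp), mul_inv_cancel_right]
      have hff : f * f = 1 := by
        rw [hfvw, show v * w * (v * w) = v * (w * v) * w by group, hg.commute_V hw hv,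
          show v * (v * w) * w = v * v * (w * w) by group, D.sq_V hv, mem_cj_sq hw, one_mul]
      have hfp : f * p = p * f := by
        have h1 : f * p * f = p := by
          apply mul_left_cancel (a := p)
          rw [← hpp]; group
        calc f * p = f * p * (f * f) := by rw [hff, mul_one]
          _ = p * f := by rw [← mul_assoc, h1]
      have hw1 : w = 1 := by
        by_contra hw1
        refine hpu0 (hg.comm_all hp hw hw1 ?_ u0 hu0)
        have c1 : Commute p (v * w) := by rw [← hfvw]; exact hfp.symm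
        have c2 : Commute p v⁻¹ := (Commute.inv_right (D.commute_P_V hp hv))
        have c3 := c2.mul_right c1
        rwa [inv_mul_cancel_left] at c3
      rw [show ⁅e, p⁆ = p * f * p⁻¹ by rw [hf, commutatorElement_def]; group, hfvw, hw1, mul_one,
        D.commute_P_V hp hv, mul_inv_cancel_right]
      exact hv
    -- such elements lie in `P`
    let N : Subgroup G :=
      { carrier := {m | m ∈ D.M ∧ (∀ v ∈ D.V, m * v = v * m) ∧ ∀ p ∈ D.P, ⁅m, p⁆ ∈ D.V}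
        one_mem' := ⟨one_mem _, fun v _ => by rw [one_mul, mul_one], fun p _ => by
          rw [commutatorElement_one_left]; exact one_mem _⟩
        mul_mem' := by
          rintro x y ⟨hx, hxV, hx'⟩ ⟨hy, hyV, hy'⟩
          refine ⟨mul_mem hx hy, fun v hv => (Commute.mul_left (hxV v hv) (hyV v hv)).eq,
            fun p hp => ?_⟩
          rw [show ⁅x * y, p⁆ = x * ⁅y, p⁆ * x⁻¹ * ⁅x, p⁆ by
            simp only [commutatorElement_def]; group]
          exact mul_mem (D.conj_V hx (hy' p hp)) (hx' p hp)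
        inv_mem' := by
          rintro x ⟨hx, hxV, hx'⟩
          refine ⟨inv_mem hx, fun v hv => (Commute.inv_left (hxV v hv)).eq, fun p hp => ?_⟩
          rw [show ⁅x⁻¹, p⁆ = x⁻¹ * ⁅x, p⁆⁻¹ * x⁻¹⁻¹ by simp only [commutatorElement_def]; group]
          exact D.conj_V (inv_mem hx) (inv_mem (hx' p hp)) }
    have hN2 : IsPGroup 2 N := by
      refine isPGroup_two_of_odd fun y hy hodd => ?_
      have hyc : ∀ p ∈ D.P, y * p = p * y := fun p hp => commute_of_comm_eq_one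
        (eq_one_of_shift (x := y) (q := p) hodd (by simp only [commutatorElement_def]; group)
          (hy.2.1 _ (hy.2.2 p hp)) (D.sq_V (hy.2.2 p hp)))
      have hyV := D.centralizer_P hy.1 hyc
      have h2 : orderOf y ∣ 2 := orderOf_dvd_of_pow_eq_one (D.hV.2 y hyV)
      exact orderOf_eq_one_iff.1 (Nat.Coprime.eq_one_of_dvd (Nat.coprime_two_right.2 hodd) h2)
    have hNQ : N ≤ D.Q := by
      refine D.hQmax N (fun x hx => hx.1) ?_ hN2
      rintro m hm n ⟨hn, hnV, hn'⟩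
      refine ⟨mul_mem (mul_mem hm hn) (inv_mem hm), fun v hv => ?_, fun p hp => ?_⟩
      · have hv' : m⁻¹ * v * m ∈ D.V := by simpa using D.conj_V (inv_mem hm) hv
        calc m * n * m⁻¹ * v = m * (n * (m⁻¹ * v * m)) * m⁻¹ := by group
          _ = m * ((m⁻¹ * v * m) * n) * m⁻¹ := by rw [hnV _ hv']
          _ = v * (m * n * m⁻¹) := by group
      · have hp' : m⁻¹ * p * m ∈ D.P := by simpa using D.conj_P (inv_mem hm) hp
        have := D.conj_V hm (hn' _ hp')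
        rw [conj_comm] at this
        simpa [mul_assoc] using this
    have heP : e ∈ D.P := D.mem_P (hNQ ⟨heM, heV, hpe⟩) heV
    obtain ⟨v, hv, w, hw, hvw⟩ := hg.mem_W.1 (hDW e heP heU)
    have hvR : v ∈ cj g D.P := by
      have : v = e * w⁻¹ := by rw [hvw, mul_inv_cancel_right]
      rw [this]; exact mul_mem he (inv_mem (cj_mono D.V_le_P hw))
    rw [hvw, hB v hv hvR, one_mul]; exact hw
  -- contradiction
  obtain ⟨v, hv, hv1⟩ := hV1
  refine hv1 (hne v hv fun r hr => ?_)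
  have hs : ⁅r, v⁆ ∈ cj g D.P := by
    rw [commutatorElement_def, show r * v * r⁻¹ * v⁻¹ = r * (v * r⁻¹ * v⁻¹) by group]
    exact mul_mem hr (hVn v hv _ (inv_mem hr))
  exact hEU _ hs (hrv r hr v hv)

/-- The relation is symmetric: `V ≤ cj g P`. -/
theorem Good.V_le {g : G} (hg : D.Good g) (hV1 : ∃ v ∈ D.V, v ≠ 1) : D.V ≤ cj g D.P := by
  obtain ⟨y, hy, hyV, hyW⟩ := hg.exists_moving hV1
  have hWy : cj y (D.V ⊔ cj g D.V) = D.V ⊔ cj g D.V := by
    apply cj_eq_of_le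
    rw [cj_sup]
    refine sup_le hyW fun a ha => ?_
    have hb := mem_cj.1 ha
    rw [show a = y * (y⁻¹ * a * y) * y⁻¹ by group, D.transport_commute hy hb, mul_inv_cancel_right]
    exact Subgroup.mem_sup_right hb
  -- the line `cj y V`
  obtain ⟨v0, hv0, hv01⟩ := hV1
  have ha1 : y * v0 * y⁻¹ ≠ 1 := fun he => hv01 (conj_eq_one_iff.1 he)
  have haV : y * v0 * y⁻¹ ∉ D.V := fun h => hyV (D.eq_of_mem_cj (conj_mem_cj hv0) h ha1)
  obtain ⟨p, hp, hmem, -⟩ := hg.cover (hyW (conj_mem_cj hv0)) haV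
  have hP : cj y D.P = cj (p * g) D.P := D.cj_P_eq_of (D.cj_eq_cj (conj_mem_cj hv0) hmem ha1)
  have hVW : D.V ≤ cj y D.P := by
    intro v hv
    have h1 : y⁻¹ * v * y ∈ D.V ⊔ cj g D.V :=
      mem_cj.1 (hWy.symm ▸ Subgroup.mem_sup_left hv : v ∈ cj y (D.V ⊔ cj g D.V))
    exact mem_cj.2 (hg.W_le_P h1)
  rw [hP, cj_mul] at hVW
  intro v hv
  have h2 := hVW (D.conj_V (D.P_le_M hp) hv)
  rw [mem_cj] at h2
  simpa [mul_assoc] using h2

theorem Good.inv {g : G} (hg : D.Good g) (hV1 : ∃ v ∈ D.V, v ≠ 1) : D.Good g⁻¹ := by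
  refine ⟨fun h => hg.1 ?_, ?_⟩
  · conv_lhs => rw [← h, ← cj_mul, mul_inv_cancel, cj_one]
  · intro a ha
    have h1 : g * a * g⁻¹ ∈ D.V := by simpa using mem_cj.1 ha
    have h2 := mem_cj.1 (hg.V_le hV1 h1)
    simpa [mul_assoc] using h2

theorem Good.cj_R_W {g r : G} (hg : D.Good g) (hV1 : ∃ v ∈ D.V, v ≠ 1) (hr : r ∈ cj g D.P) :
    cj r (D.V ⊔ cj g D.V) = D.V ⊔ cj g D.V := by
  apply cj_eq_of_le
  rw [cj_sup]
  refine sup_le (fun a ha => ?_) (fun a ha => ?_)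
  · have hb := mem_cj.1 ha
    rw [show a = ⁅r, r⁻¹ * a * r⁆ * (r⁻¹ * a * r) by simp only [commutatorElement_def]; group]
    exact mul_mem (Subgroup.mem_sup_right (D.transport_comm hr (hg.V_le hV1 hb)))
      (Subgroup.mem_sup_left hb)
  · have hb := mem_cj.1 ha
    rw [show a = r * (r⁻¹ * a * r) * r⁻¹ by group, D.transport_commute hr hb, mul_inv_cancel_right]
    exact Subgroup.mem_sup_right hb

theorem Good.surj' {g v w : G} (hg : D.Good g) (hv : v ∈ D.V) (hv1 : v ≠ 1) (hw : w ∈ cj g D.V) :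
    ∃ r ∈ cj g D.P, ⁅r, v⁆ = w := by
  have hg' := hg.inv ⟨v, hv, hv1⟩
  have hv' : g⁻¹ * v * g ∈ cj g⁻¹ D.V := mem_cj.2 (by simpa [mul_assoc] using hv)
  have hv'1 : g⁻¹ * v * g ≠ 1 := fun h => hv1 (by
    have := congrArg (fun z => g * z * g⁻¹) h
    simpa [mul_assoc] using this)
  obtain ⟨p, hp, he⟩ := hg'.surj hv' hv'1 (mem_cj.1 hw)
  refine ⟨g * p * g⁻¹, conj_mem_cj hp, ?_⟩
  have h2 := congrArg (fun z => g * z * g⁻¹) he
  simp only [conj_comm] at h2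
  simpa [mul_assoc] using h2

/-- `Q` centralizes `V`. -/
theorem Good.P_eq_Q {g : G} (hg : D.Good g) (hV1 : ∃ v ∈ D.V, v ≠ 1) : D.P = D.Q := by
  refine le_antisymm D.P_le_Q fun q hq => D.mem_P hq fun v hv => ?_
  by_cases hv1 : v = 1
  · subst hv1; rw [mul_one, one_mul]
  have hQne : D.Q ≠ ⊥ := fun h => hv1 (Subgroup.mem_bot.1 (h ▸ D.hVQ hv))
  have : Nontrivial D.Q := (Subgroup.nontrivial_iff_ne_bot _).2 hQne
  have := D.hQp.center_nontrivial
  obtain ⟨⟨⟨z, hzQ⟩, hzc⟩, hz1⟩ := exists_ne (1 : Subgroup.center D.Q)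
  have hzc' : ∀ x ∈ D.Q, z * x = x * z := fun x hx =>
    (congrArg Subtype.val (Subgroup.mem_center_iff.1 hzc ⟨x, hx⟩)).symm
  have hzV := D.center_Q hzQ hzc'
  have hz1' : z ≠ 1 := fun h => hz1 (Subtype.ext (Subtype.ext h))
  obtain ⟨w, hw, hw1⟩ : ∃ w ∈ cj g D.V, w ≠ 1 :=
    ⟨g * v * g⁻¹, conj_mem_cj hv, fun he => hv1 (conj_eq_one_iff.1 he)⟩
  -- move both `z` and `v` to `w`
  have hmove : ∀ a ∈ D.V, a ≠ 1 → ∃ h : G, h * a * h⁻¹ = w := by
    intro a ha ha1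
    obtain ⟨r, hr, hra⟩ := hg.surj' ha ha1 hw
    obtain ⟨p, hp, hpw⟩ := hg.surj hw hw1 ha
    refine ⟨p * r, ?_⟩
    calc p * r * a * (p * r)⁻¹ = p * (⁅r, a⁆ * a) * p⁻¹ := by
          simp only [commutatorElement_def]; group
      _ = (p * w * p⁻¹) * (p * a * p⁻¹) := by rw [hra]; group
      _ = ⁅p, w⁆ * w * a := by
          rw [D.commute_P_V hp ha, mul_inv_cancel_right]; simp only [commutatorElement_def]; group
      _ = w := by
          rw [hpw, mul_assoc, hg.commute_V hw ha, ← mul_assoc, D.sq_V ha, one_mul]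
  obtain ⟨h1, hh1⟩ := hmove z hzV hz1'
  obtain ⟨h2, hh2⟩ := hmove v hv hv1
  have hm : (h2⁻¹ * h1) * z * (h2⁻¹ * h1)⁻¹ = v := by
    have e : h2⁻¹ * (h1 * z * h1⁻¹) * h2 = v := by rw [hh1, ← hh2]; group
    rw [← e]; group
  have hmM : h2⁻¹ * h1 ∈ D.M := D.mem_M_of_conj hzV hz1' (by rw [hm]; exact hv)
  set m := h2⁻¹ * h1
  have hq' : m⁻¹ * q * m ∈ D.Q := by simpa using D.hQn _ (inv_mem hmM) q hq
  have h := hzc' _ hq'
  rw [← hm]
  calc q * (m * z * m⁻¹) = m * ((m⁻¹ * q * m) * z) * m⁻¹ := by group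
    _ = m * (z * (m⁻¹ * q * m)) * m⁻¹ := by rw [h]
    _ = m * z * m⁻¹ * q := by group

end Data

end CfsgLib.TISub
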