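/-
Spread sets closed under inversion (finite, characteristic two) are fields.
-/
import Mathlib
import Cfsg.Agent.Lib.Invol.ZStarFinal
import Cfsg.Agent.S2904

set_option autoImplicit false

namespace CfsgLib.TISub

variable {A : Type*} [Ring A]

/-- The data of an additive set containing `1` all of whose nonzero elements have inverses inside it. -/
structure InvSet (A : Type*) [Ring A] where
  /-- the additive subgroup -/
  S : AddSubgroup A
  two : ∀ a : A, a + a = 0
  one_mem : (1 : A) ∈ S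
  inv : ∀ s ∈ S, s ≠ 0 → ∃ t ∈ S, s * t = 1 ∧ t * s = 1

namespace InvSet

theorem sub_eq (D : InvSet A) (a b : A) : a - b = a + b := by
  rw [sub_eq_iff_eq_add, add_assoc, D.two, add_zero]

theorem mul_cancel (D : InvSet A) {s a : A} (hs : s ∈ D.S) (h0 : s ≠ 0) (h : s * a = 0) :
    a = 0 := by
  obtain ⟨t, _, _, hts⟩ := D.inv s hs h0
  calc a = t * s * a := by rw [hts, one_mul]
    _ = 0 := by rw [mul_assoc, h, mul_zero]

theorem sts_mem (D : InvSet A) {s t : A} (hs : s ∈ D.S) (ht : t ∈ D.S) : s * t * s ∈ D.S := by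
  by_cases hs0 : s = 0
  · simp [hs0, D.S.zero_mem]
  by_cases ht0 : t = 0
  · simp [ht0, D.S.zero_mem]
  by_cases hst : s * t = 1
  · rw [hst, one_mul]; exact hs
  obtain ⟨s', hs', hss', hs's⟩ := D.inv s hs hs0
  obtain ⟨t', ht', htt', ht't⟩ := D.inv t ht ht0
  have hu : t' - s ∈ D.S := D.S.sub_mem ht' hs
  have hu0 : t' - s ≠ 0 := by
    intro h
    apply hst
    rw [← sub_eq_zero.1 h]; exact ht't
  obtain ⟨u', hu', _, hu'u⟩ := D.inv _ hu hu0
  have htu : t * (t' - s) = 1 - t * s := by rw [mul_sub, htt']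
  have hut : (t' - s) * t = 1 - s * t := by rw [sub_mul, ht't]
  have hw : s' + u' ∈ D.S := D.S.add_mem hs' hu'
  have hw1 : (s' + u') * (s * t * (t' - s)) = 1 := by
    have h1 : s' * (s * t * (t' - s)) = t * (t' - s) := by
      rw [← mul_assoc, ← mul_assoc, hs's, one_mul]
    have hst' : s * t = 1 - (t' - s) * t := by rw [hut]; abel
    have h2 : u' * (s * t * (t' - s)) = 1 - t * (t' - s) := by
      rw [hst', sub_mul, one_mul, mul_sub, hu'u, mul_assoc (t' - s), ← mul_assoc u', hu'u, one_mul]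
    rw [add_mul, h1, h2]; abel
  have hw0 : s' + u' ≠ 0 := by
    intro h; rw [h, zero_mul] at hw1
    apply hs0
    calc s = s * (1 : A) := (mul_one s).symm
      _ = 0 := by rw [← hw1, mul_zero]
  obtain ⟨w', hw', _, hw'w⟩ := D.inv _ hw hw0
  have he : w' = s * t * (t' - s) := by
    calc w' = w' * ((s' + u') * (s * t * (t' - s))) := by rw [hw1, mul_one]
      _ = _ := by rw [← mul_assoc, hw'w, one_mul]
  rw [he, mul_assoc s t (t' - s), htu, mul_sub, mul_one, ← mul_assoc] at hw'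
  simpa using D.S.sub_mem hs hw'

theorem pow_mem (D : InvSet A) {s : A} (hs : s ∈ D.S) : ∀ k : ℕ, s ^ k ∈ D.S
  | 0 => by simpa using D.one_mem
  | 1 => by simpa using hs
  | k + 2 => by
    have := D.sts_mem hs (D.pow_mem hs k)
    rwa [← pow_succ', ← pow_succ] at this

theorem eq_one_of_sq (D : InvSet A) {s : A} (hs : s ∈ D.S) (h : s * s = 1) : s = 1 := by
  by_contra hne
  have h1 : s + 1 ≠ 0 := by
    intro h0; apply hne
    rw [← D.sub_eq] at h0
    exact sub_eq_zero.1 h0
  have hz : (s + 1) * (s + 1) = 0 := by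
    have : (s + 1) * (s + 1) = (s * s + 1) + (s + s) := by
      rw [add_mul, mul_add, mul_one, one_mul]; abel
    rw [this, h, D.two, D.two, add_zero]
  exact h1 (D.mul_cancel (D.S.add_mem hs D.one_mem) h1 hz)

variable [Finite A]

omit [Finite A] in
theorem isUnit (D : InvSet A) {s : A} (hs : s ∈ D.S) (h0 : s ≠ 0) : IsUnit s := by
  obtain ⟨t, _, hst, hts⟩ := D.inv s hs h0
  exact ⟨⟨s, t, hst, hts⟩, rfl⟩

theorem orderOf_pos' (D : InvSet A) {s : A} (hs : s ∈ D.S) (h0 : s ≠ 0) : 0 < orderOf s := by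
  obtain ⟨u, rfl⟩ := D.isUnit hs h0
  rw [orderOf_units]; exact orderOf_pos u

theorem orderOf_odd (D : InvSet A) {s : A} (hs : s ∈ D.S) (h0 : s ≠ 0) : Odd (orderOf s) := by
  rw [← Nat.not_even_iff_odd]
  rintro ⟨k, hk⟩
  have hp := D.orderOf_pos' hs h0
  have h1 : s ^ k = 1 := by
    apply D.eq_one_of_sq (D.pow_mem hs k)
    rw [← pow_add, ← hk, pow_orderOf_eq_one]
  have := Nat.le_of_dvd (by omega) (orderOf_dvd_of_pow_eq_one h1)
  omega

theorem exists_sqrt (D : InvSet A) {s : A} (hs : s ∈ D.S) (h0 : s ≠ 0) :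
    ∃ r ∈ D.S, r ≠ 0 ∧ r * r = s ∧ ∀ x, x * s = s * x → x * r = r * x := by
  obtain ⟨k, hk⟩ := D.orderOf_odd hs h0
  refine ⟨s ^ (k + 1), D.pow_mem hs _, ?_, ?_, fun x hx => ?_⟩
  · have := nontrivial_of_ne s 0 h0
    exact IsUnit.ne_zero (IsUnit.pow _ (D.isUnit hs h0))
  · rw [← pow_add, show k + 1 + (k + 1) = orderOf s + 1 by omega, pow_succ, pow_orderOf_eq_one,
      one_mul]
  · exact Commute.pow_right hx _

/-- Fixed points of `x ↦ b x b`. -/
theorem eq_zero_of_fixed (D : InvSet A) {b z : A} (hb : b ∈ D.S) (hb0 : b ≠ 0) (hb1 : b ≠ 1)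
    (hz : z ∈ D.S) (h : b * z * b = z) : z = 0 := by
  by_contra hz0
  obtain ⟨c, _, _, hcc, hcomm⟩ := D.exists_sqrt hz hz0
  obtain ⟨b', _, hbb', hb'b⟩ := D.inv b hb hb0
  have hbz : b * z = z * b' := by
    calc b * z = b * z * (b * b') := by rw [hbb', mul_one]
      _ = b * z * b * b' := by rw [mul_assoc (b * z)]
      _ = z * b' := by rw [h]
  have hzb : z * b = b' * z := by
    calc z * b = b' * (b * z) * b := by rw [← mul_assoc b', hb'b, one_mul]
      _ = b' * z := by rw [mul_assoc, h]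
  have h2 : (z * z) * b = b * (z * z) := by
    rw [mul_assoc, hzb, ← mul_assoc, ← hbz, mul_assoc]
  obtain ⟨k, hk⟩ := D.orderOf_odd hz hz0
  have hzc : z = (z * z) ^ (k + 1) := by
    rw [← sq, ← pow_mul, show 2 * (k + 1) = orderOf z + 1 by omega, pow_succ, pow_orderOf_eq_one,
      one_mul]
  have hcb : z * b = b * z := by
    have hc : Commute ((z * z) ^ (k + 1)) b := Commute.pow_left h2 _
    rw [← hzc] at hc
    exact hc
  apply hb1
  apply D.eq_one_of_sq hb
  have h3 : b * b * z = z := by rw [mul_assoc, ← hcb, ← mul_assoc, h]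
  obtain ⟨z', _, hzz', _⟩ := D.inv z hz hz0
  calc b * b = b * b * (z * z') := by rw [hzz', mul_one]
    _ = b * b * z * z' := by rw [mul_assoc (b * b)]
    _ = 1 := by rw [h3, hzz']

/-- Elements of order three are central. -/
theorem central_of_cube (D : InvSet A) {b : A} (hb : b ∈ D.S) (hb1 : b ≠ 1) (h3 : b ^ 3 = 1)
    {x : A} (hx : x ∈ D.S) : b * x = x * b := by
  have hb3 : b * b * b = 1 := by rw [← h3, pow_succ, pow_two]
  have hb0 : b ≠ 0 := by
    intro h0; rw [h0, mul_zero] at hb3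
    exact hb1 (by rw [h0, hb3])
  have hb2 : b * b = b + 1 := by
    have h0 : (b + 1) * (b * b + b + 1) = 0 := by
      have : (b + 1) * (b * b + b + 1) = (b * b * b + 1) + (b * b + b * b) + (b + b) := by
        rw [add_mul, mul_add, mul_add, ← mul_assoc, mul_one, one_mul]; abel
      rw [this, hb3]; simp only [D.two, add_zero]
    have hne : b + 1 ≠ 0 := by
      intro h; apply hb1
      rw [← D.sub_eq] at h
      exact sub_eq_zero.1 h
    have := D.mul_cancel (D.S.add_mem hb D.one_mem) hne h0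
    rw [add_assoc] at this
    rw [← D.sub_eq (b * b) (b + 1)] at this
    exact sub_eq_zero.1 this
  have hT : x + b * x * b + b * b * x * (b * b) = 0 := by
    have h1 : b * x * b ∈ D.S := D.sts_mem hb hx
    have h2 : b * b * x * (b * b) ∈ D.S :=
      D.sts_mem (by simpa [pow_two] using D.pow_mem hb 2) hx
    refine D.eq_zero_of_fixed hb hb0 hb1 (D.S.add_mem (D.S.add_mem hx h1) h2) ?_
    have e : ∀ y : A, b * (b * (b * y)) = y := fun y => by
      rw [← mul_assoc, ← mul_assoc, hb3, one_mul]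
    simp only [mul_add, add_mul, mul_assoc]
    simp only [e]
    rw [show b * (b * b) = 1 by rw [← mul_assoc, hb3], mul_one]
    abel
  have hz : b * (b * x * (b * b) + x) = b * x * (b * b) + x := by
    have h1 : b * (b * x * (b * b) + x) = b * b * x * (b * b) + b * x := by
      simp only [mul_add, mul_assoc]
    have h2 : b * b * x * (b * b) = x + b * x * b := by
      rw [← D.sub_eq _ _] at hT
      rw [← sub_eq_zero.1 hT]
    rw [h1, h2]
    conv_rhs => rw [hb2, mul_add, mul_one]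
    abel
  have hz0 : b * x * (b * b) + x = 0 := by
    apply D.mul_cancel (D.S.add_mem hb D.one_mem)
    · intro h; apply hb1
      rw [← D.sub_eq] at h
      exact sub_eq_zero.1 h
    · rw [add_mul, one_mul, hz, D.two]
  rw [← D.sub_eq, sub_eq_zero] at hz0
  calc b * x = b * x * (b * b * b) := by rw [hb3, mul_one]
    _ = b * x * (b * b) * b := by simp only [mul_assoc]
    _ = x * b := by rw [hz0]

/-! ### The swap maps -/

variable {V : Type*} [AddCommGroup V]

/-- An element of an inverse-closed set, with its inverse. -/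
abbrev Elt (D : InvSet (AddMonoid.End V)) :=
  {s : AddMonoid.End V × AddMonoid.End V //
    s.1 ∈ D.S ∧ s.2 ∈ D.S ∧ s.1 * s.2 = 1 ∧ s.2 * s.1 = 1}

theorem end_cancel {s t : AddMonoid.End V} (h : s * t = 1) (v : V) : s (t v) = v :=
  congrArg (fun f : AddMonoid.End V => f v) h

/-- `(x, y) ↦ (s y, s⁻¹ x)`. -/
def swap {D : InvSet (AddMonoid.End V)} (s : Elt D) : Equiv.Perm (V × V) where
  toFun p := (s.1.1 p.2, s.1.2 p.1)
  invFun p := (s.1.1 p.2, s.1.2 p.1)
  left_inv p := Prod.ext (end_cancel s.2.2.2.1 p.1) (end_cancel s.2.2.2.2 p.2)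
  right_inv p := Prod.ext (end_cancel s.2.2.2.1 p.1) (end_cancel s.2.2.2.2 p.2)

@[simp] theorem swap_apply {D : InvSet (AddMonoid.End V)} (s : Elt D) (p : V × V) :
    swap s p = (s.1.1 p.2, s.1.2 p.1) := rfl

theorem swap_mul_self {D : InvSet (AddMonoid.End V)} (s : Elt D) : swap s * swap s = 1 :=
  Equiv.ext fun p => (swap s).left_inv p

theorem swap_inv {D : InvSet (AddMonoid.End V)} (s : Elt D) : (swap s)⁻¹ = swap s :=
  inv_eq_of_mul_eq_one_left (swap_mul_self s)

theorem swap_injective {D : InvSet (AddMonoid.End V)} : Function.Injective (swap (D := D)) := by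
  intro s t h
  have h1 : ∀ y, s.1.1 y = t.1.1 y := fun y =>
    congrArg Prod.fst (Equiv.congr_fun h (0, y))
  have h2 : ∀ y, s.1.2 y = t.1.2 y := fun y =>
    congrArg Prod.snd (Equiv.congr_fun h (y, 0))
  exact Subtype.ext (Prod.ext (DFunLike.ext _ _ h1) (DFunLike.ext _ _ h2))

/-- The unit element. -/
def eone (D : InvSet (AddMonoid.End V)) : Elt D :=
  ⟨(1, 1), D.one_mem, D.one_mem, mul_one 1, mul_one 1⟩

variable [Finite V]

instance instFiniteEnd : Finite (AddMonoid.End V) :=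
  Finite.of_injective (fun f : AddMonoid.End V => (f : V → V)) DFunLike.coe_injective

theorem swap_conj (D : InvSet (AddMonoid.End V)) (s t : Elt D) :
    ∃ u : Elt D, u.1.1 = s.1.1 * t.1.2 * s.1.1 ∧ swap s * swap t * (swap s)⁻¹ = swap u := by
  obtain ⟨⟨a, a'⟩, ha, ha', h1, h2⟩ := s
  obtain ⟨⟨c, c'⟩, hc, hc', h3, h4⟩ := t
  refine ⟨⟨(a * c' * a, a' * c * a'), D.sts_mem ha hc', D.sts_mem ha' hc, ?_, ?_⟩, rfl, ?_⟩
  · simp only [mul_assoc]
    rw [← mul_assoc a a', h1, one_mul, ← mul_assoc c' c, h4, one_mul, h1]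
  · simp only [mul_assoc]
    rw [← mul_assoc a' a, h2, one_mul, ← mul_assoc c c', h3, one_mul, h2]
  · rw [swap_inv]; ext p <;> rfl

theorem exists_elt (D : InvSet (AddMonoid.End V)) {s : AddMonoid.End V} (hs : s ∈ D.S)
    (h0 : s ≠ 0) : ∃ e : Elt D, e.1.1 = s := by
  obtain ⟨t, ht, h1, h2⟩ := D.inv s hs h0
  exact ⟨⟨(s, t), hs, ht, h1, h2⟩, rfl⟩

theorem elt_ne_zero [Nontrivial V] (D : InvSet (AddMonoid.End V)) (e : Elt D) : e.1.1 ≠ 0 := by
  intro h
  obtain ⟨v, hv⟩ := exists_ne (0 : V)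
  apply hv
  have := end_cancel e.2.2.2.1 v
  rw [h] at this
  exact this.symm

theorem elt_ext (D : InvSet (AddMonoid.End V)) {e f : Elt D} (h : e.1.1 = f.1.1) : e = f := by
  refine Subtype.ext (Prod.ext h ?_)
  calc e.1.2 = e.1.2 * (f.1.1 * f.1.2) := by rw [f.2.2.2.1, mul_one]
    _ = e.1.2 * e.1.1 * f.1.2 := by rw [mul_assoc, h]
    _ = f.1.2 := by rw [e.2.2.2.2, one_mul]

theorem card_elt [Nontrivial V] (D : InvSet (AddMonoid.End V)) :
    Nat.card (Elt D) + 1 = Nat.card D.S := by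
  classical
  have : Fintype D.S := Fintype.ofFinite _
  let f : Elt D → {s : D.S // s ≠ 0} := fun e =>
    ⟨⟨e.1.1, e.2.1⟩, fun h => D.elt_ne_zero e (congrArg Subtype.val h)⟩
  have hf : Function.Bijective f := by
    refine ⟨fun e e' h => D.elt_ext (congrArg (fun x => (x.1 : AddMonoid.End V)) h), fun s => ?_⟩
    obtain ⟨e, he⟩ := D.exists_elt s.1.2 (fun h => s.2 (Subtype.ext h))
    exact ⟨e, Subtype.ext (Subtype.ext he)⟩
  rw [Nat.card_eq_of_bijective f hf, Nat.card_eq_fintype_card, Nat.card_eq_fintype_card,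
    Fintype.card_subtype_compl, Fintype.card_subtype_eq]
  have : 0 < Fintype.card D.S := Fintype.card_pos
  omega

/-- For every prime divisor `r` of `|S| - 1` some element of `S` has order divisible by `r`. -/
theorem exists_dvd_orderOf [Nontrivial V] (D : InvSet (AddMonoid.End V)) {r : ℕ} (hr : r.Prime)
    (hdvd : r ∣ Nat.card D.S - 1) :
    ∃ s ∈ D.S, s ≠ 0 ∧ r ∣ orderOf s := by
  classical
  set J := Set.range (swap (D := D)) with hJ
  set Γ := Subgroup.closure J with hΓ
  have hmemΓ : ∀ s : Elt D, swap s ∈ Γ := fun s => Subgroup.subset_closure ⟨s, rfl⟩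
  have hnorm : Γ ≤ Subgroup.normalizer J := by
    rw [hΓ, Subgroup.closure_le]
    rintro _ ⟨s, rfl⟩
    refine Subgroup.mem_normalizer_fintype ?_
    rintro _ ⟨t, rfl⟩
    obtain ⟨u, _, hu⟩ := D.swap_conj s t
    exact ⟨u, hu.symm⟩
  let e1 := eone D
  let τ : ↥Γ := ⟨swap e1, hmemΓ e1⟩
  have hτ2 : τ * τ = 1 := Subtype.ext (swap_mul_self e1)
  have hconjJ : ∀ g : ↥Γ, ∃ u : Elt D, (g * τ * g⁻¹).1 = swap u := fun g => by
    obtain ⟨u, hu⟩ := ((Subgroup.mem_set_normalizer_iff.1 (hnorm g.2)) (swap e1)).1 ⟨e1, rfl⟩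
    exact ⟨u, hu.symm⟩
  have hτ1 : τ ≠ 1 := by
    intro h
    obtain ⟨v, hv⟩ := exists_ne (0 : V)
    have := congrArg Prod.fst (Equiv.congr_fun (congrArg Subtype.val h) (v, 0))
    exact hv this.symm
  have hiso : Cfsg.IsIsolatedInvolution τ := by
    refine ⟨orderOf_eq_prime (by rw [pow_two, hτ2]) hτ1, fun g hg => ?_⟩
    obtain ⟨u, hu⟩ := hconjJ g
    have hc : swap e1 * swap u = swap u * swap e1 := by
      have := congrArg Subtype.val hg.eq
      simp only [Subgroup.coe_mul] at this hu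
      rwa [hu] at this
    have h2 : u.1.1 = u.1.2 := by
      refine DFunLike.ext _ _ fun v => ?_
      have := congrArg Prod.fst (Equiv.congr_fun hc (v, 0))
      simpa [e1, eone] using this.symm
    have h3 : u.1.1 = 1 := D.eq_one_of_sq u.2.1 (by
      have := u.2.2.2.1; rwa [← h2] at this)
    apply Subtype.ext
    rw [hu]
    exact congrArg swap (D.elt_ext (show u.1.1 = e1.1.1 from h3))
  obtain ⟨N, hNn, hNodd, hNc⟩ := CfsgLib.Invol.zstar_normal_form CfsgLib.Invol.constTwo hiso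
  -- every swap is conjugate to `τ` by an element of `N`
  have hsurj : ∀ u : Elt D, ∃ k ∈ N, (k * τ * k⁻¹).1 = swap u := by
    intro u
    obtain ⟨w, hw, hw0, hww, -⟩ := D.exists_sqrt u.2.1 (D.elt_ne_zero u)
    obtain ⟨e, he⟩ := D.exists_elt hw hw0
    obtain ⟨x, hx, hxc⟩ := D.swap_conj e e1
    have hxu : x = u := D.elt_ext (by
      rw [hx, he, show (e1.1.2 : AddMonoid.End V) = 1 from rfl, mul_one, hww])
    let n : ↥Γ := ⟨swap e, hmemΓ e⟩
    have hn : (n * τ * n⁻¹).1 = swap u := by rw [← hxu, ← hxc]; rfl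
    have hkN : n * τ ∈ N := by
      obtain ⟨w2, hw2, hw20, hw22, -⟩ := D.exists_sqrt e.2.1 (D.elt_ne_zero e)
      obtain ⟨e2, he2⟩ := D.exists_elt hw2 hw20
      obtain ⟨x2, hx2, hxc2⟩ := D.swap_conj e2 e1
      have hx2e : x2 = e := D.elt_ext (by
        rw [hx2, he2, show (e1.1.2 : AddMonoid.End V) = 1 from rfl, mul_one, hw22, he])
      let n2 : ↥Γ := ⟨swap e2, hmemΓ e2⟩
      have hn2 : n2 * τ * n2⁻¹ = n := Subtype.ext (by
        show swap e2 * swap e1 * (swap e2)⁻¹ = swap e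
        rw [hxc2, hx2e])
      have hτi : τ⁻¹ = τ := inv_eq_of_mul_eq_one_right hτ2
      have := N.inv_mem (hNc n2)
      rw [← hn2]
      simpa [mul_inv_rev, mul_assoc, hτi] using this
    refine ⟨n * τ, hkN, ?_⟩
    rw [← hn]
    apply congrArg Subtype.val
    simp [mul_assoc, mul_inv_rev, hτ2, inv_eq_of_mul_eq_one_right hτ2]
  -- the action of `N` on the class
  let : MulAction ↥N ↥Γ := MulAction.compHom ↥Γ ((ConjAct.toConjAct.toMonoidHom).comp N.subtype)
  have hsmul : ∀ (k : ↥N) (x : ↥Γ), k • x = (k : ↥Γ) * x * (k : ↥Γ)⁻¹ := fun k x =>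
    ConjAct.smul_def _ _
  have horb : Nat.card (MulAction.orbit ↥N τ) = Nat.card (Elt D) := by
    let f : MulAction.orbit ↥N τ → Set.range (swap (D := D)) := fun x => ⟨x.1.1, by
      obtain ⟨k, hk⟩ := x.2
      obtain ⟨u, hu⟩ := hconjJ (k : ↥Γ)
      exact ⟨u, by rw [← hu, ← hk]; exact congrArg Subtype.val (hsmul k τ).symm⟩⟩
    have hf : Function.Bijective f := by
      refine ⟨fun x y h => Subtype.ext (Subtype.ext (congrArg (fun z => z.1) h)), ?_⟩
      rintro ⟨_, u, rfl⟩
      obtain ⟨k, hk, hku⟩ := hsurj u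
      exact ⟨⟨(⟨k, hk⟩ : ↥N) • τ, MulAction.mem_orbit _ _⟩, Subtype.ext (by
        show ((⟨k, hk⟩ : ↥N) • τ).1 = swap u
        rw [hsmul]; exact hku)⟩
    rw [Nat.card_eq_of_bijective f hf]
    exact Nat.card_congr (Equiv.ofInjective _ swap_injective).symm
  have hrC : r ∣ (MulAction.stabilizer ↥N τ).index := by
    rw [MulAction.index_stabilizer]
    show r ∣ Nat.card (MulAction.orbit ↥N τ)
    rw [horb]
    have := D.card_elt
    rwa [show Nat.card D.S - 1 = Nat.card (Elt D) by omega] at hdvd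
  -- an invariant Sylow subgroup
  have := Fact.mk hr
  let φ : MulAut ↥N := MulAut.conjNormal τ
  have hφ2 : φ * φ = 1 := by rw [← map_mul, hτ2, map_one]
  have hp : IsPGroup 2 (Subgroup.zpowers φ) := by
    intro x
    obtain ⟨k, hk⟩ := x.2
    refine ⟨1, Subtype.ext ?_⟩
    simp only [pow_one, Subgroup.coe_pow, Subgroup.coe_one]
    rw [← hk, ← zpow_natCast, ← zpow_mul, mul_comm, zpow_mul]
    simp [pow_two, hφ2]
  obtain ⟨P, hP⟩ := hp.nonempty_fixed_point_of_prime_not_dvd_card (Sylow r ↥N) (by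
    intro h
    have h2 := h.trans ((Sylow.card_dvd_index (default : Sylow r ↥N)).trans
      (Subgroup.index_dvd_card _))
    exact (Nat.not_even_iff_odd.2 hNodd) (even_iff_two_dvd.2 h2))
  have hPφ : φ • P = P := hP ⟨φ, Subgroup.mem_zpowers φ⟩
  have hex : ∃ x ∈ (P : Subgroup ↥N), φ x ≠ x := by
    by_contra hcon
    push Not at hcon
    have hle : (P : Subgroup ↥N) ≤ MulAction.stabilizer ↥N τ := fun x hx => by
      rw [MulAction.mem_stabilizer_iff, hsmul]
      have h := congrArg Subtype.val (hcon x hx)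
      rw [MulAut.conjNormal_apply] at h
      have h' : τ * (x : ↥Γ) = (x : ↥Γ) * τ := mul_inv_eq_iff_eq_mul.1 h
      rw [← h', mul_assoc, mul_inv_cancel, mul_one]
    exact P.not_dvd_index (hrC.trans (Subgroup.index_dvd_of_le hle))
  obtain ⟨x, hx, hxne⟩ := hex
  have hφx : φ x ∈ (P : Subgroup ↥N) := by
    have : φ x ∈ ((φ • P : Sylow r ↥N) : Subgroup ↥N) := by
      exact Subgroup.smul_mem_pointwise_smul x φ _ hx
    rwa [hPφ] at this
  set k := x⁻¹ * φ x with hk
  have hkP : k ∈ (P : Subgroup ↥N) := mul_mem (inv_mem hx) hφx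
  have hkinv : φ k = k⁻¹ := by
    have : φ (φ x) = x := by
      show (φ * φ) x = x
      rw [hφ2]; rfl
    rw [hk, map_mul, map_inv, this, mul_inv_rev, inv_inv]
  -- square root in `N`
  obtain ⟨m, hm⟩ : Odd (orderOf k) := hNodd.of_dvd_nat (orderOf_dvd_natCard k)
  set l := k ^ (m + 1) with hl
  have hll : l * l = k := by
    rw [hl, ← pow_add, show m + 1 + (m + 1) = orderOf k + 1 by omega, pow_succ, pow_orderOf_eq_one,
      one_mul]
  have hlinv : φ l = l⁻¹ := by rw [hl, map_pow, hkinv, inv_pow]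
  have hlτ : (l : ↥Γ) * τ * (l : ↥Γ)⁻¹ = (k : ↥Γ) * τ := by
    have h := congrArg Subtype.val hlinv
    rw [MulAut.conjNormal_apply, Subgroup.coe_inv] at h
    have hτi : τ⁻¹ = τ := inv_eq_of_mul_eq_one_right hτ2
    rw [hτi] at h
    rw [← hll, Subgroup.coe_mul, ← h]
    simp only [mul_assoc]
    rw [← mul_assoc τ τ, hτ2, one_mul]
  obtain ⟨u, hu⟩ := hconjJ (l : ↥Γ)
  rw [hlτ] at hu
  have hku : ∀ v : V, ((k : ↥Γ) : Equiv.Perm (V × V)) (v, 0) = (u.1.1 v, 0) := by
    intro v
    have := Equiv.congr_fun hu (0, v)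
    simpa [τ, e1, eone] using this
  have hkpow : ∀ (j : ℕ) (v : V),
      (((k : ↥Γ) : Equiv.Perm (V × V)) ^ j) (v, 0) = ((u.1.1 ^ j) v, 0) := by
    intro j
    induction j with
    | zero => intro v; rfl
    | succ j ih => intro v; rw [pow_succ, Equiv.Perm.mul_apply, hku, ih, pow_succ]; rfl
  refine ⟨u.1.1, u.2.1, D.elt_ne_zero u, ?_⟩
  obtain ⟨i, hi⟩ := P.2 ⟨k, hkP⟩
  have hki : k ^ r ^ i = 1 := congrArg Subtype.val hi
  have hup : u.1.1 ^ r ^ i = 1 := by
    refine DFunLike.ext _ _ fun v => ?_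
    have := hkpow (r ^ i) v
    have h1 : ((k : ↥Γ) : Equiv.Perm (V × V)) ^ r ^ i = 1 := by
      rw [← Subgroup.coe_pow, ← Subgroup.coe_pow, hki]; rfl
    rw [h1] at this
    exact (congrArg Prod.fst this).symm
  obtain ⟨j, hj, hord⟩ := (Nat.dvd_prime_pow hr).1 (orderOf_dvd_of_pow_eq_one hup)
  rcases j with _ | j
  · exfalso
    rw [pow_zero, orderOf_eq_one_iff] at hord
    have : u = e1 := D.elt_ext hord
    apply hxne
    have hk1 : k = 1 := by
      apply Subtype.ext; apply mul_right_cancel (b := τ)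
      apply Subtype.ext
      rw [hu, this]
      simp only [one_mul, OneMemClass.coe_one]
      rfl
    rw [hk, inv_mul_eq_one] at hk1
    exact hk1.symm
  · rw [hord]; exact dvd_pow_self r (Nat.succ_ne_zero j)

/-! ### The field generated by one element -/

theorem mem_S_of_mem_closure (D : InvSet A) {u : A} (hu : u ∈ D.S) {x : A}
    (hx : x ∈ Subring.closure ({u} : Set A)) : x ∈ D.S := by
  rw [Subring.mem_closure_iff] at hx
  induction hx using AddSubgroup.closure_induction with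
  | mem y hy =>
    obtain ⟨n, rfl⟩ := Submonoid.mem_closure_singleton.1 hy
    exact D.pow_mem hu n
  | zero => exact D.S.zero_mem
  | add _ _ _ _ h1 h2 => exact D.S.add_mem h1 h2
  | neg _ _ h => exact D.S.neg_mem h

theorem commute_of_mem_closure {u x y : A} (hx : x ∈ Subring.closure ({u} : Set A))
    (hy : y ∈ Subring.closure ({u} : Set A)) : x * y = y * x := by
  have hle : Subring.closure ({u} : Set A) ≤ Subring.centralizer {u} :=
    Subring.closure_le.2 (fun z hz => by
      rw [Set.mem_singleton_iff] at hz; subst hz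
      intro w hw; rw [Set.mem_singleton_iff] at hw; rw [hw])
  have hle2 : Subring.closure ({u} : Set A) ≤ Subring.centralizer {x} :=
    Subring.closure_le.2 (fun z hz => by
      rw [Set.mem_singleton_iff] at hz; subst hz
      intro w hw; rw [Set.mem_singleton_iff] at hw; subst hw
      exact ((hle hx) z rfl).symm)
  exact (hle2 hy) x rfl

omit [Finite A] in
theorem dvd_two_pow_sub_one_of_orderOf (D : InvSet A) [Finite A] [Nontrivial A] {u : A}
    (hu : u ∈ D.S) (hu0 : u ≠ 0) :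
    ∃ d : ℕ, Nat.card (Subring.closure ({u} : Set A)) = 2 ^ d ∧ orderOf u ∣ 2 ^ d - 1 := by
  classical
  set R := Subring.closure ({u} : Set A) with hR
  have : Fintype R := Fintype.ofFinite _
  have hnz : ∀ x : R, x ≠ 0 → IsUnit (x : A) := fun x hx =>
    D.isUnit (D.mem_S_of_mem_closure hu x.2) (fun h => hx (Subtype.ext h))
  have : Nontrivial R := ⟨⟨0, 1, fun h => zero_ne_one (congrArg Subtype.val h)⟩⟩
  have hnzd : NoZeroDivisors R := ⟨fun {x y} h => by
    by_cases hx : x = 0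
    · exact Or.inl hx
    · refine Or.inr (Subtype.ext ?_)
      have h' : (x : A) * (y : A) = 0 := congrArg Subtype.val h
      exact ((hnz x hx).mul_right_eq_zero).1 h'⟩
  let : CommRing R := { (inferInstance : Ring R) with
    mul_comm := fun x y => Subtype.ext (commute_of_mem_closure x.2 y.2) }
  have : IsDomain R := NoZeroDivisors.to_isDomain R
  let : Field R := Fintype.fieldOfDomain R
  have hp : IsPGroup 2 (Multiplicative R) := fun x => ⟨1, by
    apply Multiplicative.toAdd.injective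
    show (2 ^ 1) • (Multiplicative.toAdd x) = 0
    rw [pow_one, two_nsmul]; exact Subtype.ext (D.two _)⟩
  obtain ⟨d, hd⟩ := IsPGroup.iff_card.1 hp
  refine ⟨d, hd, orderOf_dvd_of_pow_eq_one ?_⟩
  let x : R := ⟨u, Subring.subset_closure rfl⟩
  have hx0 : x ≠ 0 := fun h => hu0 (congrArg Subtype.val h)
  have h1 := FiniteField.pow_card_sub_one_eq_one x hx0
  have hc : Fintype.card R = 2 ^ d := by
    rw [← hd, ← Nat.card_eq_fintype_card]; rfl
  rw [hc] at h1
  exact congrArg Subtype.val h1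

theorem eq_closure_of_card (D : InvSet A) {u : A} (hu : u ∈ D.S)
    (h : Nat.card D.S ≤ Nat.card (Subring.closure ({u} : Set A))) :
    ∀ x, x ∈ D.S ↔ x ∈ Subring.closure ({u} : Set A) := by
  have hle : (Subring.closure ({u} : Set A)).toAddSubgroup ≤ D.S := fun x hx =>
    D.mem_S_of_mem_closure hu hx
  have := AddSubgroup.eq_of_le_of_card_ge hle (le_trans h (le_refl _))
  intro x
  rw [← this]
  rfl

/-- An inverse-closed spread set is a field. -/
theorem commute_and_mul_mem [Nontrivial V] (D : InvSet (AddMonoid.End V)) :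
    ∀ s ∈ D.S, ∀ t ∈ D.S, s * t = t * s ∧ s * t ∈ D.S := by
  classical
  have hp : IsPGroup 2 (Multiplicative D.S) := fun x => ⟨1, by
    apply Multiplicative.toAdd.injective
    show (2 ^ 1) • (Multiplicative.toAdd x) = 0
    rw [pow_one, two_nsmul]; exact Subtype.ext (D.two _)⟩
  obtain ⟨N, hN'⟩ := IsPGroup.iff_card.1 hp
  have hN : Nat.card D.S = 2 ^ N := hN'
  suffices h : ∃ u ∈ D.S, Nat.card D.S ≤ Nat.card (Subring.closure ({u} : Set (AddMonoid.End V))) by
    obtain ⟨u, hu, hc⟩ := h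
    have hiff := D.eq_closure_of_card hu hc
    intro s hs t ht
    exact ⟨commute_of_mem_closure ((hiff s).1 hs) ((hiff t).1 ht),
      (hiff _).2 (mul_mem ((hiff s).1 hs) ((hiff t).1 ht))⟩
  have hsub : ∀ u ∈ D.S, u ≠ 0 → ∀ d, Nat.card (Subring.closure ({u} : Set (AddMonoid.End V))) = 2 ^ d →
      d ≤ N := by
    intro u hu _ d hd
    have h1 := AddSubgroup.card_le_of_le
      (show (Subring.closure ({u} : Set (AddMonoid.End V))).toAddSubgroup ≤ D.S from
        fun x hx => D.mem_S_of_mem_closure hu hx)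
    have h2 : (2 : ℕ) ^ d ≤ 2 ^ N := by rw [← hd, ← hN]; exact h1
    exact (Nat.pow_le_pow_iff_right (by norm_num)).1 h2
  have : Nontrivial (AddMonoid.End V) := by
    obtain ⟨v, hv⟩ := exists_ne (0 : V)
    exact ⟨⟨0, 1, fun h => hv (congrArg (fun f : AddMonoid.End V => f v) h).symm⟩⟩
  by_cases hN1 : N ≤ 1
  · refine ⟨1, D.one_mem, ?_⟩
    rw [hN]
    refine le_trans (Nat.pow_le_pow_right (by norm_num) hN1) ?_
    rw [pow_one]
    exact Finite.one_lt_card_iff_nontrivial.2
      ⟨⟨0, 1, fun h => zero_ne_one (congrArg Subtype.val h)⟩⟩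
  by_cases hN6 : N = 6
  · -- elements of orders three and seven
    obtain ⟨a₀, ha₀, ha00, ha7⟩ := D.exists_dvd_orderOf (r := 7) (by norm_num) (by rw [hN, hN6]; norm_num)
    obtain ⟨b₀, hb₀, hb00, hb3⟩ := D.exists_dvd_orderOf (r := 3) (by norm_num) (by rw [hN, hN6]; norm_num)
    set a := a₀ ^ (orderOf a₀ / 7) with hadef
    set b := b₀ ^ (orderOf b₀ / 3) with hbdef
    have hoa : orderOf a = 7 := orderOf_pow_orderOf_div (D.orderOf_pos' ha₀ ha00).ne' ha7
    have hob : orderOf b = 3 := orderOf_pow_orderOf_div (D.orderOf_pos' hb₀ hb00).ne' hb3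
    have ha : a ∈ D.S := D.pow_mem ha₀ _
    have hb : b ∈ D.S := D.pow_mem hb₀ _
    have hb1 : b ≠ 1 := fun h => by rw [h, orderOf_one] at hob; norm_num at hob
    have hb31 : b ^ 3 = 1 := by rw [← hob]; exact pow_orderOf_eq_one b
    have hcom : Commute a b := (D.central_of_cube hb hb1 hb31 ha).symm
    have ha0 : a ≠ 0 := fun h => by
      have := pow_orderOf_eq_one a
      rw [hoa, h] at this; simp at this
    obtain ⟨c, hc, -, hcc, hcx⟩ := D.exists_sqrt ha ha0
    have hab : a * b ∈ D.S := by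
      have := D.sts_mem hc hb
      rwa [mul_assoc, (hcx b hcom.eq.symm), ← mul_assoc, hcc] at this
    have hoab : orderOf (a * b) = 21 := by
      rw [hcom.orderOf_mul_eq_mul_orderOf_of_coprime (by rw [hoa, hob]; norm_num), hoa, hob]
    have hab0 : a * b ≠ 0 := fun h => by
      have := pow_orderOf_eq_one (a * b)
      rw [hoab, h] at this; simp at this
    obtain ⟨d, hd, hdd⟩ := D.dvd_two_pow_sub_one_of_orderOf hab hab0
    refine ⟨a * b, hab, ?_⟩
    rw [hN, hd]
    have hdle := hsub _ hab hab0 d hd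
    rw [hoab] at hdd
    have hd1 : d ≠ 0 := fun h => by
      rw [h, pow_zero] at hd
      have hz : Nontrivial (Subring.closure ({a * b} : Set (AddMonoid.End V))) :=
        ⟨⟨0, 1, fun h => zero_ne_one (congrArg Subtype.val h)⟩⟩
      have := Finite.one_lt_card_iff_nontrivial.2 hz
      omega
    subst hN6
    interval_cases d <;> first | exact le_refl _ | exact absurd rfl hd1 | (exfalso; norm_num at hdd)
  obtain ⟨r, hr, hrd, hrk⟩ := Cfsg.Agent.S2904.result 2 N (by norm_num) (by omega)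
    (fun h => hN6 h.2) (by
      rintro ⟨-, m, hm⟩
      rcases m with _ | _ | m <;> simp [pow_succ] at hm <;> omega)
  obtain ⟨u, hu, hu0, hru⟩ := D.exists_dvd_orderOf hr (by rw [hN]; exact hrd)
  obtain ⟨d, hd, hdd⟩ := D.dvd_two_pow_sub_one_of_orderOf hu hu0
  refine ⟨u, hu, ?_⟩
  rw [hN, hd]
  rcases Nat.eq_zero_or_pos d with rfl | hd0
  · exfalso
    have hz : Nontrivial (Subring.closure ({u} : Set (AddMonoid.End V))) :=
      ⟨⟨0, 1, fun h => zero_ne_one (congrArg Subtype.val h)⟩⟩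
    have := Finite.one_lt_card_iff_nontrivial.2 hz
    rw [hd] at this
    norm_num at this
  have hdle := hsub u hu hu0 d hd
  apply Nat.pow_le_pow_right (by norm_num)
  by_contra hlt
  exact hrk d hd0 (by omega) (hru.trans hdd)

end InvSet

end CfsgLib.TISub
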