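/-
The group induced on `W = V × V^g` is `SL_2`.
-/
import Mathlib
import Cfsg.Agent.Lib.TISub.Basic
import Cfsg.Agent.Lib.TISub.Hua

set_option autoImplicit false

open scoped commutatorElement

namespace CfsgLib.TISub

universe u

section SL2

variable {F : Type*} [Field F]

/-- Upper unitriangular matrix. -/
def upper (a : F) : Matrix.SpecialLinearGroup (Fin 2) F :=
  ⟨!![1, a; 0, 1], by simp [Matrix.det_fin_two]⟩

/-- Lower unitriangular matrix. -/
def lower (a : F) : Matrix.SpecialLinearGroup (Fin 2) F :=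
  ⟨!![1, 0; a, 1], by simp [Matrix.det_fin_two]⟩

theorem upper_coe (a : F) : (upper a).1 = !![1, a; 0, 1] := rfl

theorem lower_coe (a : F) : (lower a).1 = !![1, 0; a, 1] := rfl

theorem closure_unipotent : Subgroup.closure (Set.range (upper (F := F)) ∪ Set.range lower) = ⊤ := by
  set K := Subgroup.closure (Set.range (upper (F := F)) ∪ Set.range lower)
  have hU : ∀ a, upper (F := F) a ∈ K := fun a => Subgroup.subset_closure (Or.inl ⟨a, rfl⟩)
  have hL : ∀ a, lower (F := F) a ∈ K := fun a => Subgroup.subset_closure (Or.inr ⟨a, rfl⟩)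
  have key : ∀ m : Matrix.SpecialLinearGroup (Fin 2) F, m.1 1 0 ≠ 0 → m ∈ K := by
    intro m hc
    have hdet := m.2
    rw [Matrix.det_fin_two] at hdet
    have : m = upper ((m.1 0 0 - 1) / m.1 1 0) * lower (m.1 1 0) *
        upper ((m.1 1 1 - 1) / m.1 1 0) := by
      apply Subtype.ext
      rw [Matrix.SpecialLinearGroup.coe_mul, Matrix.SpecialLinearGroup.coe_mul, upper_coe, upper_coe,
        lower_coe]
      ext i j
      fin_cases i <;> fin_cases j <;>
        simp [Matrix.mul_apply, Fin.sum_univ_two] <;> field_simp <;>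
        first | linear_combination hdet | linear_combination -hdet | ring1
    rw [this]
    exact mul_mem (mul_mem (hU _) (hL _)) (hU _)
  refine eq_top_iff.2 fun m _ => ?_
  by_cases hc : m.1 1 0 = 0
  · have h2 : (lower 1 * m).1 1 0 ≠ 0 := by
      have hdet := m.2
      rw [Matrix.det_fin_two, hc, mul_zero, sub_zero] at hdet
      rw [Matrix.SpecialLinearGroup.coe_mul, lower_coe]
      simp [Matrix.mul_apply, Fin.sum_univ_two, hc]
      intro h; rw [h, zero_mul] at hdet; exact zero_ne_one hdet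
    have h3 := mul_mem (inv_mem (hL 1)) (key _ h2)
    rwa [inv_mul_cancel_left] at h3
  · exact key m hc

end SL2

variable {G : Type u} [Group G] [Finite G] {D : Data G}

set_option maxHeartbeats 1600000 in
/-- The action of `P ⊔ P^g` on `V × V^g` induces `SL_2(q)`. -/
theorem Data.Good.exists_SL2 {g : G} (hg : D.Good g) (hV1 : ∃ v ∈ D.V, v ≠ 1)
    (hN : ((Subgroup.centralizer ((D.V ⊔ cj g D.V : Subgroup G) : Set G)).subgroupOf
      (D.P ⊔ cj g D.P)).Normal) :
    ∃ (F : Type) (_ : Field F) (_ : Fintype F), Fintype.card F = Nat.card ↥D.V ∧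
      Nonempty (↥(D.P ⊔ cj g D.P) ⧸ (Subgroup.centralizer ((D.V ⊔ cj g D.V : Subgroup G) : Set G)).subgroupOf
        (D.P ⊔ cj g D.P) ≃* Matrix.SpecialLinearGroup (Fin 2) F) := by
  classical
  set W : Subgroup G := D.V ⊔ cj g D.V with hW
  set H : Subgroup G := D.P ⊔ cj g D.P with hH
  have : IsMulCommutative D.V := D.hV.1
  let : CommGroup D.V := { (inferInstance : Group D.V) with mul_comm := fun a b => mul_comm' a b }
  obtain ⟨v₁, hv₁, hv₁1⟩ := hV1
  have hV1 : ∃ v ∈ D.V, v ≠ 1 := ⟨v₁, hv₁, hv₁1⟩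
  -- a fixed element of `P`
  obtain ⟨w₁, hw₁, hw₁1⟩ : ∃ w ∈ cj g D.V, w ≠ 1 :=
    ⟨g * v₁ * g⁻¹, conj_mem_cj hv₁, fun he => hv₁1 (conj_eq_one_iff.1 he)⟩
  obtain ⟨p₁, hp₁, hp₁w⟩ := hg.surj hw₁ hw₁1 hv₁
  have hp₁n : ∃ u ∈ cj g D.V, p₁ * u ≠ u * p₁ :=
    ⟨w₁, hw₁, fun h => hv₁1 (by rw [← hp₁w, comm_eq_one_of_commute h])⟩
  let f0 : cj g D.V → D.V := fun u => ⟨⁅p₁, (u : G)⁆, D.comm_mem hp₁ (hg.2 u.2)⟩
  have hf0 : Function.Bijective f0 := by
    have hs : Function.Surjective f0 := fun v => by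
      obtain ⟨u, hu, he⟩ := hg.onto hp₁ hp₁n v.2
      exact ⟨⟨u, hu⟩, Subtype.ext he⟩
    exact (Nat.bijective_iff_surjective_and_card f0).2 ⟨hs, card_cj g D.V⟩
  let f := Equiv.ofBijective f0 hf0
  let ι : Additive D.V → cj g D.V := fun y => f.symm y.toMul
  have hι : ∀ y, ⁅p₁, (ι y : G)⁆ = (y.toMul : G) := fun y =>
    congrArg Subtype.val (f.apply_symm_apply y.toMul)
  have hιeq : ∀ (y : Additive D.V) (u : G) (hu : u ∈ cj g D.V), ⁅p₁, u⁆ = (y.toMul : G) → (ι y : G) = u := by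
    intro y u hu h
    have : f ⟨u, hu⟩ = y.toMul := Subtype.ext h
    show ((f.symm y.toMul : cj g D.V) : G) = u
    rw [← this, f.symm_apply_apply]
  have hιadd : ∀ y z, (ι (y + z) : G) = ι y * ι z := fun y z => hιeq _ _ (mul_mem (ι y).2 (ι z).2) (by
    rw [D.comm_mul_right' hp₁ (hg.2 (ι y).2) (hg.2 (ι z).2), hι, hι]; rfl)
  -- coordinates
  let Vt := Additive D.V
  let e : Vt × Vt → W := fun x => ⟨(x.1.toMul : G) * ι x.2,
    mul_mem (Subgroup.mem_sup_left x.1.toMul.2) (Subgroup.mem_sup_right (ι x.2).2)⟩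
  have hinj2 : ∀ v ∈ D.V, ∀ v' ∈ D.V, ∀ u ∈ cj g D.V, ∀ u' ∈ cj g D.V,
      v * u = v' * u' → v = v' ∧ u = u' := by
    intro v hv v' hv' u hu u' hu' h
    have h1 : v'⁻¹ * v = u' * u⁻¹ := by
      have := congrArg (fun z => v'⁻¹ * z * u⁻¹) h
      simpa [mul_assoc] using this
    have h2 : v'⁻¹ * v = 1 := Data.eq_one_of_mem_both hg.1
      (h1 ▸ mul_mem hu' (inv_mem hu)) (mul_mem (inv_mem hv') hv)
    exact ⟨(inv_mul_eq_one.1 h2).symm, by
      rw [h2] at h1; exact (mul_inv_eq_one.1 h1.symm).symm⟩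
  have hebij : Function.Bijective e := by
    refine ⟨fun x y h => ?_, fun w => ?_⟩
    · obtain ⟨h1, h2⟩ := hinj2 _ x.1.toMul.2 _ y.1.toMul.2 _ (ι x.2).2 _ (ι y.2).2
        (congrArg Subtype.val h)
      refine Prod.ext (Additive.toMul.injective (Subtype.ext h1)) ?_
      have := congrArg f (Subtype.ext h2 : ι x.2 = ι y.2)
      simp only [ι, Equiv.apply_symm_apply] at this
      exact Additive.toMul.injective this
    · obtain ⟨v, hv, u, hu, hvu⟩ := hg.mem_W.1 w.2
      refine ⟨(Additive.ofMul ⟨v, hv⟩, Additive.ofMul (f ⟨u, hu⟩)), Subtype.ext ?_⟩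
      show v * (ι (Additive.ofMul (f ⟨u, hu⟩)) : G) = w
      rw [hιeq _ u hu rfl, hvu]
  -- the upper parameters
  let sOf : ∀ p ∈ D.P, AddMonoid.End Vt := fun p hp => AddMonoidHom.mk'
    (fun y => Additive.ofMul (⟨⁅p, (ι y : G)⁆, D.comm_mem hp (hg.2 (ι y).2)⟩ : D.V))
    (fun y z => Additive.toMul.injective (Subtype.ext (by
      show ⁅p, (ι (y + z) : G)⁆ = ⁅p, (ι y : G)⁆ * ⁅p, (ι z : G)⁆
      rw [hιadd, D.comm_mul_right' hp (hg.2 (ι y).2) (hg.2 (ι z).2)])))
  have hsOf : ∀ p (hp : p ∈ D.P) y, ((sOf p hp y).toMul : G) = ⁅p, (ι y : G)⁆ := fun _ _ _ => rfl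
  let S : AddSubgroup (AddMonoid.End Vt) :=
    { carrier := {s | ∃ (p : G) (hp : p ∈ D.P), sOf p hp = s}
      zero_mem' := ⟨1, one_mem _, DFunLike.ext _ _ fun y => Additive.toMul.injective (Subtype.ext (by
        rw [hsOf 1 (one_mem _), commutatorElement_one_left]; rfl))⟩
      add_mem' := by
        rintro _ _ ⟨p, hp, rfl⟩ ⟨p', hp', rfl⟩
        exact ⟨p * p', mul_mem hp hp', DFunLike.ext _ _ fun y => Additive.toMul.injective (Subtype.ext (by
          show ⁅p * p', (ι y : G)⁆ = ⁅p, (ι y : G)⁆ * ⁅p', (ι y : G)⁆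
          exact D.comm_mul_left' hp hp' (hg.2 (ι y).2)))⟩
      neg_mem' := by
        rintro _ ⟨p, hp, rfl⟩
        refine ⟨p, hp, DFunLike.ext _ _ fun y => Additive.toMul.injective (Subtype.ext ?_)⟩
        show ⁅p, (ι y : G)⁆ = ⁅p, (ι y : G)⁆⁻¹
        exact (D.inv_V (D.comm_mem hp (hg.2 (ι y).2))).symm }
  have hone : (1 : AddMonoid.End Vt) ∈ S :=
    ⟨p₁, hp₁, DFunLike.ext _ _ fun y => Additive.toMul.injective (Subtype.ext (hι y))⟩
  have htwoV : ∀ y : Vt, y + y = 0 := fun y =>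
    Additive.toMul.injective (Subtype.ext (D.sq_V y.toMul.2))
  -- the lower parameters
  have hVR := hg.V_le hV1
  let tOf : ∀ r ∈ cj g D.P, AddMonoid.End Vt := fun r hr => AddMonoidHom.mk'
    (fun x => Additive.ofMul (f ⟨⁅r, (x.toMul : G)⁆, D.transport_comm hr (hVR x.toMul.2)⟩))
    (fun x z => by
      apply Additive.toMul.injective
      apply Subtype.ext
      show ⁅p₁, ⁅r, (x.toMul : G) * (z.toMul : G)⁆⁆ =
        ⁅p₁, ⁅r, (x.toMul : G)⁆⁆ * ⁅p₁, ⁅r, (z.toMul : G)⁆⁆
      have hx := D.transport_comm hr (hVR x.toMul.2)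
      have hz := D.transport_comm hr (hVR z.toMul.2)
      rw [← D.comm_mul_right' hp₁ (hg.2 hx) (hg.2 hz)]
      congr 1
      rw [show ⁅r, (x.toMul : G) * (z.toMul : G)⁆ = ⁅r, (x.toMul : G)⁆ *
        ((x.toMul : G) * ⁅r, (z.toMul : G)⁆ * (x.toMul : G)⁻¹) by
          simp only [commutatorElement_def]; group,
        ← hg.commute_V hz x.toMul.2, mul_inv_cancel_right])
  have htOf : ∀ r (hr : r ∈ cj g D.P) x, (ι (tOf r hr x) : G) = ⁅r, (x.toMul : G)⁆ := fun r hr x =>
    hιeq _ _ (D.transport_comm hr (hVR x.toMul.2)) rfl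
  -- actions
  have hWn : ∀ h ∈ H, cj h W = W := by
    have hle : H ≤ Subgroup.normalizer (W : Set G) := sup_le
      (fun p hp => cj_eq_self_iff.1 (hg.cj_P_W hp)) (fun r hr => cj_eq_self_iff.1 (hg.cj_R_W hV1 hr))
    exact fun h hh => cj_eq_self_iff.2 (hle hh)
  let E : Vt × Vt ≃ W := Equiv.ofBijective e hebij
  let act : H → Vt × Vt → W := fun h x => ⟨(h : G) * (e x : G) * (h : G)⁻¹,
    (hWn h h.2).le (conj_mem_cj (e x).2)⟩
  let A : H → Equiv.Perm (Vt × Vt) := fun h =>
    { toFun := fun x => E.symm (act h x)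
      invFun := fun x => E.symm (act h⁻¹ x)
      left_inv := fun x => by
        apply E.injective
        rw [Equiv.apply_symm_apply]
        apply Subtype.ext
        show ((h⁻¹ : H) : G) * (E (E.symm (act h x)) : G) * ((h⁻¹ : H) : G)⁻¹ = (e x : G)
        rw [Equiv.apply_symm_apply]
        simp only [act, Subgroup.coe_inv]; group
      right_inv := fun x => by
        apply E.injective
        rw [Equiv.apply_symm_apply]
        apply Subtype.ext
        show (h : G) * (E (E.symm (act h⁻¹ x)) : G) * (h : G)⁻¹ = (e x : G)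
        rw [Equiv.apply_symm_apply]
        simp only [act, Subgroup.coe_inv]; group }
  have hA : ∀ h x, (e (A h x) : G) = (h : G) * (e x : G) * (h : G)⁻¹ := fun h x =>
    congrArg Subtype.val (E.apply_symm_apply (act h x))
  let α : H →* Equiv.Perm (Vt × Vt) := MonoidHom.mk' A (fun a b => Equiv.ext fun x => hebij.1 (Subtype.ext (by
    rw [hA, Equiv.Perm.mul_apply, hA, hA, Subgroup.coe_mul]; group)))
  have heq : ∀ x y, (e x : G) = e y → x = y := fun x y h => hebij.1 (Subtype.ext h)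
  have hαP : ∀ (p : G) (hp : p ∈ D.P) (x : Vt × Vt),
      α ⟨p, Subgroup.mem_sup_left hp⟩ x = (x.1 + sOf p hp x.2, x.2) := by
    intro p hp x
    apply heq
    show (e (A _ x) : G) = _
    rw [hA]
    show p * ((x.1.toMul : G) * ι x.2) * p⁻¹ = (x.1.toMul : G) * ((sOf p hp x.2).toMul : G) * ι x.2
    rw [hsOf p hp, show p * ((x.1.toMul : G) * ι x.2) * p⁻¹ = (p * x.1.toMul * p⁻¹) * (p * ι x.2 * p⁻¹) by
      group, D.commute_P_V hp x.1.toMul.2, mul_inv_cancel_right, commutatorElement_def]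
    group
  have hαR : ∀ (r : G) (hr : r ∈ cj g D.P) (x : Vt × Vt),
      α ⟨r, Subgroup.mem_sup_right hr⟩ x = (x.1, x.2 + tOf r hr x.1) := by
    intro r hr x
    apply heq
    show (e (A _ x) : G) = _
    rw [hA]
    show r * ((x.1.toMul : G) * ι x.2) * r⁻¹ = (x.1.toMul : G) * (ι (x.2 + tOf r hr x.1) : G)
    rw [hιadd, htOf r hr, show r * ((x.1.toMul : G) * ι x.2) * r⁻¹ =
      ⁅r, (x.1.toMul : G)⁆ * (x.1.toMul : G) * (r * ι x.2 * r⁻¹) by
        simp only [commutatorElement_def]; group,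
      D.transport_commute hr (ι x.2).2, mul_inv_cancel_right,
      hg.commute_V (D.transport_comm hr (hVR x.1.toMul.2)) x.1.toMul.2, mul_assoc,
      Data.mem_cj_comm (D.transport_comm hr (hVR x.1.toMul.2)) (ι x.2).2]
  -- lines
  have hline : ∀ (p : G) (hp : p ∈ D.P) (a : G), a ∈ cj (p * g) D.V ↔
      ∃ y, a = (e (sOf p hp y, y) : G) := by
    intro p hp a
    constructor
    · intro ha
      rw [cj_mul, mem_cj] at ha
      refine ⟨Additive.ofMul (f ⟨_, ha⟩), ?_⟩
      have hi := hιeq (Additive.ofMul (f ⟨_, ha⟩)) _ ha rfl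
      show a = ⁅p, (ι _ : G)⁆ * (ι _ : G)
      rw [hi]; simp only [commutatorElement_def]; group
    · rintro ⟨y, rfl⟩
      rw [cj_mul]
      show ⁅p, (ι y : G)⁆ * (ι y : G) ∈ _
      rw [show ⁅p, (ι y : G)⁆ * (ι y : G) = p * ι y * p⁻¹ by simp only [commutatorElement_def]; group]
      exact conj_mem_cj (ι y).2
  have hVne : Nontrivial Vt :=
    ⟨⟨Additive.ofMul ⟨v₁, hv₁⟩, 0, fun h => hv₁1 (congrArg (fun z : Vt => ((z.toMul : D.V) : G)) h)⟩⟩
  obtain ⟨y₀, hy₀⟩ := exists_ne (0 : Vt)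
  have hy₀G : (y₀.toMul : G) ≠ 1 := fun h => hy₀ (Additive.toMul.injective (Subtype.ext h))
  have hιne : ∀ y : Vt, y ≠ 0 → (ι y : G) ≠ 1 := fun y hy h => hy (Additive.toMul.injective (Subtype.ext (by
    rw [← hι y, h, commutatorElement_one_right]; rfl)))
  -- evaluation is bijective
  have hevinj : ∀ s ∈ S, ∀ y : Vt, y ≠ 0 → s y = 0 → s = 0 := by
    rintro _ ⟨p, hp, rfl⟩ y hy hsy
    have hc : p * (ι y : G) = ι y * p := commute_of_comm_eq_one (by
      rw [← hsOf p hp y, hsy]; rfl)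
    have hall := hg.comm_all hp (ι y).2 (hιne y hy) hc
    exact DFunLike.ext _ _ fun z => Additive.toMul.injective (Subtype.ext (by
      rw [hsOf p hp, comm_eq_one_of_commute (hall _ (ι z).2)]; rfl))
  have hev : Function.Bijective (fun s : S => (s : AddMonoid.End Vt) y₀) := by
    refine ⟨fun s t h => ?_, fun v => ?_⟩
    · apply Subtype.ext
      refine sub_eq_zero.1 (hevinj _ (S.sub_mem s.2 t.2) y₀ hy₀ ?_)
      show (s : AddMonoid.End Vt) y₀ - (t : AddMonoid.End Vt) y₀ = 0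
      exact sub_eq_zero.2 h
    · obtain ⟨p, hp, he⟩ := hg.surj (ι y₀).2 (hιne y₀ hy₀) v.toMul.2
      exact ⟨⟨sOf p hp, p, hp, rfl⟩, Additive.toMul.injective (Subtype.ext he)⟩
  have hcardS : Nat.card S = Nat.card D.V := Nat.card_eq_of_bijective _ hev
  -- the swap
  obtain ⟨r₁, hr₁, hr₁t⟩ : ∃ (r : G) (hr : r ∈ cj g D.P), tOf r hr = 1 := by
    obtain ⟨r, hr, he⟩ := hg.surj' y₀.toMul.2 hy₀G (ι y₀).2
    refine ⟨r, hr, DFunLike.ext _ _ fun x => ?_⟩
    -- the line through `(y₀, y₀)`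
    have hmem : r * (y₀.toMul : G) * r⁻¹ ∈ cj (p₁ * g) D.V := by
      refine (hline p₁ hp₁ _).2 ⟨y₀, ?_⟩
      show r * (y₀.toMul : G) * r⁻¹ = ⁅p₁, (ι y₀ : G)⁆ * (ι y₀ : G)
      rw [hι, show r * (y₀.toMul : G) * r⁻¹ = ⁅r, (y₀.toMul : G)⁆ * y₀.toMul by
        simp only [commutatorElement_def]; group, he, hg.commute_V (ι y₀).2 y₀.toMul.2]
    have hlines := D.cj_eq_cj (conj_mem_cj y₀.toMul.2) hmem
      (fun h => hy₀G (conj_eq_one_iff.1 h))
    have hx : r * (x.toMul : G) * r⁻¹ ∈ cj (p₁ * g) D.V := hlines ▸ conj_mem_cj x.toMul.2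
    obtain ⟨y, hy⟩ := (hline p₁ hp₁ _).1 hx
    have h1 : r * (x.toMul : G) * r⁻¹ = (x.toMul : G) * (ι (tOf r hr x) : G) := by
      rw [htOf r hr, ← hg.commute_V (D.transport_comm hr (hVR x.toMul.2)) x.toMul.2]
      simp only [commutatorElement_def]; group
    rw [h1] at hy
    have h2 := heq (x, tOf r hr x) (sOf p₁ hp₁ y, y) hy
    have h3 : sOf p₁ hp₁ y = y := Additive.toMul.injective (Subtype.ext (hι y))
    show tOf r hr x = x
    rw [show tOf r hr x = y from congrArg Prod.snd h2, ← h3]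
    exact (congrArg Prod.fst h2).symm
  let n₀ : H := ⟨p₁, Subgroup.mem_sup_left hp₁⟩ * ⟨r₁, Subgroup.mem_sup_right hr₁⟩ *
    ⟨p₁, Subgroup.mem_sup_left hp₁⟩
  have hswap : ∀ x : Vt × Vt, α n₀ x = (x.2, x.1) := by
    intro x
    have hs1 : ∀ y, sOf p₁ hp₁ y = y := fun y => Additive.toMul.injective (Subtype.ext (hι y))
    simp only [n₀, map_mul, Equiv.Perm.mul_apply]
    rw [hαP p₁ hp₁, hαR r₁ hr₁, hαP p₁ hp₁]
    simp only [hr₁t, hs1]
    show (x.1 + x.2 + (x.2 + (x.1 + x.2)), x.2 + (x.1 + x.2)) = (x.2, x.1)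
    have e1 : x.2 + (x.1 + x.2) = x.1 := by rw [add_left_comm, htwoV, add_zero]
    rw [e1, add_right_comm, htwoV, zero_add]
  -- inverses
  have hsinv : ∀ s ∈ S, s ≠ 0 → ∃ t ∈ S, s * t = 1 ∧ t * s = 1 := by
    intro s hs hs0
    obtain ⟨p, hp, rfl⟩ := hs
    set a := y₀ with hadef
    have hsa : sOf p hp a ≠ 0 := fun h => hs0 (hevinj _ ⟨p, hp, rfl⟩ a hy₀ h)
    have hzW : (e (a, sOf p hp a) : G) ∈ W := (e _).2
    have hzV : (e (a, sOf p hp a) : G) ∉ D.V := by
      intro h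
      have h2 : e (a, sOf p hp a) = e (Additive.ofMul ⟨_, h⟩, 0) := Subtype.ext (by
        show _ = (e (a, sOf p hp a) : G) * (ι 0 : G)
        rw [hιeq 0 1 (one_mem _) (by rw [commutatorElement_one_right]; rfl), mul_one])
      exact hsa (congrArg Prod.snd (hebij.1 h2))
    obtain ⟨p', hp', hmem, -⟩ := hg.cover hzW hzV
    have hconj : ∀ y, (n₀ : G) * (e (sOf p hp y, y) : G) * (n₀ : G)⁻¹ = (e (y, sOf p hp y) : G) := by
      intro y; rw [← hA]; exact congrArg (fun z => (e z : G)) (hswap _)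
    have hlines : cj ((n₀ : G) * (p * g)) D.V = cj (p' * g) D.V := by
      refine D.cj_eq_cj (a := (e (a, sOf p hp a) : G)) ?_ hmem (fun h => hzV (h ▸ one_mem _))
      rw [cj_mul, ← hconj]
      exact conj_mem_cj ((hline p hp _).2 ⟨a, rfl⟩)
    have hleft : ∀ y, sOf p' hp' (sOf p hp y) = y := by
      intro y
      have h1 : (e (y, sOf p hp y) : G) ∈ cj (p' * g) D.V := by
        rw [← hlines, cj_mul, ← hconj]
        exact conj_mem_cj ((hline p hp _).2 ⟨y, rfl⟩)
      obtain ⟨z, hz⟩ := (hline p' hp' _).1 h1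
      have h2 := heq _ _ hz
      rw [show sOf p hp y = z from congrArg Prod.snd h2]
      exact (congrArg Prod.fst h2).symm
    refine ⟨sOf p' hp', ⟨p', hp', rfl⟩, ?_, DFunLike.ext _ _ hleft⟩
    have hs_surj : Function.Surjective (sOf p hp) :=
      Finite.surjective_of_injective (Function.LeftInverse.injective hleft)
    exact DFunLike.ext _ _ fun y => by
      obtain ⟨z, rfl⟩ := hs_surj y
      show sOf p hp (sOf p' hp' (sOf p hp z)) = sOf p hp z
      rw [hleft]
  let IS : InvSet (AddMonoid.End Vt) :=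
    { S := S
      two := fun a => DFunLike.ext _ _ fun y => htwoV (a y)
      one_mem := hone
      inv := hsinv }
  have hfield := InvSet.commute_and_mul_mem IS
  let R : Subring (AddMonoid.End Vt) :=
    { carrier := S
      one_mem' := hone
      mul_mem' := fun ha hb => (hfield _ ha _ hb).2
      zero_mem' := S.zero_mem
      add_mem' := fun ha hb => S.add_mem ha hb
      neg_mem' := fun ha => S.neg_mem ha }
  have hRnt : Nontrivial R := ⟨⟨0, 1, fun h => by
    have := congrArg (fun z : R => (z : AddMonoid.End Vt) y₀) h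
    exact hy₀ this.symm⟩⟩
  let : CommRing R := { (inferInstance : Ring R) with
    mul_comm := fun a b => Subtype.ext (hfield _ a.2 _ b.2).1 }
  have hfld : IsField R :=
    { exists_pair_ne := exists_pair_ne R
      mul_comm := mul_comm
      mul_inv_cancel := fun {a} ha => by
        obtain ⟨t, ht, h1, -⟩ := hsinv a a.2 (fun h => ha (Subtype.ext h))
        exact ⟨⟨t, ht⟩, Subtype.ext h1⟩ }
  let : Field R := hfld.toField
  have : Fintype R := Fintype.ofFinite R
  let K := {x : Fin (Fintype.card R) // True}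
  let eF : K ≃ R := (Equiv.subtypeUnivEquiv fun _ => trivial).trans (Fintype.equivFin R).symm
  let iF : Field K := eF.field
  refine ⟨K, iF, inferInstance, ?_, ?_⟩
  · rw [Fintype.card_congr eF, ← Nat.card_eq_fintype_card]; exact hcardS
  let ψ : K →+* AddMonoid.End Vt := R.subtype.comp eF.ringEquiv.toRingHom
  have hψmem : ∀ c, ψ c ∈ S := fun c => (eF c).2
  have hψsurj : ∀ s ∈ S, ∃ c, ψ c = s := fun s hs =>
    ⟨eF.symm ⟨s, hs⟩, by show ((eF (eF.symm ⟨s, hs⟩)) : AddMonoid.End Vt) = s; rw [Equiv.apply_symm_apply]⟩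
  let bf : Matrix (Fin 2) (Fin 2) K → Vt × Vt → Vt × Vt := fun m x =>
    (ψ (m 0 0) x.1 + ψ (m 0 1) x.2, ψ (m 1 0) x.1 + ψ (m 1 1) x.2)
  have bf_mul : ∀ m n x, bf (m * n) x = bf m (bf n x) := fun m n x => by
    simp only [bf, Matrix.mul_apply, Fin.sum_univ_two, map_add, map_mul, AddMonoidHom.add_apply]
    refine Prod.ext ?_ ?_ <;>
    · show ((_ : Vt) + _) + ((_ : Vt) + _) = _
      exact add_add_add_comm _ _ _ _
  have bf_one : ∀ x, bf 1 x = x := fun x => by
    simp [bf]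
  let β : Matrix.SpecialLinearGroup (Fin 2) K →* Equiv.Perm (Vt × Vt) :=
    MonoidHom.mk' (fun m =>
      { toFun := bf (m : Matrix (Fin 2) (Fin 2) K)
        invFun := bf ((m⁻¹ : Matrix.SpecialLinearGroup (Fin 2) K) : Matrix (Fin 2) (Fin 2) K)
        left_inv := fun x => by
          rw [← bf_mul, ← Matrix.SpecialLinearGroup.coe_mul, inv_mul_cancel,
            Matrix.SpecialLinearGroup.coe_one, bf_one]
        right_inv := fun x => by
          rw [← bf_mul, ← Matrix.SpecialLinearGroup.coe_mul, mul_inv_cancel,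
            Matrix.SpecialLinearGroup.coe_one, bf_one] })
      (fun m n => Equiv.ext fun x => by
        show bf ((m * n : Matrix.SpecialLinearGroup (Fin 2) K) : Matrix (Fin 2) (Fin 2) K) x = bf m (bf n x)
        rw [Matrix.SpecialLinearGroup.coe_mul, bf_mul])
  have hψinj : Function.Injective ψ := fun a b h => eF.injective (Subtype.ext h)
  have hβinj : Function.Injective β := by
    intro m n h
    have h0 : ∀ x, bf m.1 x = bf n.1 x := fun x => Equiv.congr_fun h x
    apply Subtype.ext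
    refine Matrix.ext fun i j => ?_
    apply hψinj
    refine DFunLike.ext _ _ fun v => ?_
    fin_cases i <;> fin_cases j
    · simpa [bf] using congrArg Prod.fst (h0 (v, 0))
    · simpa [bf] using congrArg Prod.fst (h0 (0, v))
    · simpa [bf] using congrArg Prod.snd (h0 (v, 0))
    · simpa [bf] using congrArg Prod.snd (h0 (0, v))
  have hβU : ∀ c x, β (upper c) x = (x.1 + ψ c x.2, x.2) := fun c x => by
    show bf _ x = _; simp [bf, upper]
  have hβL : ∀ c x, β (lower c) x = (x.1, x.2 + ψ c x.1) := fun c x => by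
    show bf _ x = _; simp [bf, lower]
    exact add_comm _ _
  have htS : ∀ r (hr : r ∈ cj g D.P), tOf r hr ∈ S := by
    intro r hr
    by_cases h0 : tOf r hr = 0
    · rw [h0]; exact S.zero_mem
    -- a point of the line `cj r V` outside `V`
    obtain ⟨x, hx⟩ : ∃ x, tOf r hr x ≠ 0 := by
      by_contra hc; push Not at hc; exact h0 (DFunLike.ext _ _ hc)
    have hx0 : x ≠ 0 := fun h => hx (by rw [h]; exact map_zero _)
    let hre : H := ⟨r, Subgroup.mem_sup_right hr⟩
    have himg : ∀ x, r * (x.toMul : G) * r⁻¹ = (e (x, tOf r hr x) : G) := fun x => by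
      have h1 := hA hre (x, 0)
      have h2 : A hre (x, 0) = (x, 0 + tOf r hr x) := hαR r hr (x, 0)
      rw [h2, zero_add] at h1
      rw [h1]
      show r * (x.toMul : G) * r⁻¹ = r * ((x.toMul : G) * ι 0) * r⁻¹
      rw [hιeq 0 1 (one_mem _) (by rw [commutatorElement_one_right]; rfl), mul_one]
    have hzW : r * (x.toMul : G) * r⁻¹ ∈ W := himg x ▸ (e _).2
    have hx1 : (x.toMul : G) ≠ 1 := fun h => hx0 (Additive.toMul.injective (Subtype.ext h))
    have hzV : r * (x.toMul : G) * r⁻¹ ∉ D.V := by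
      intro h
      rw [himg] at h
      have h2 : e (x, tOf r hr x) = e (Additive.ofMul ⟨_, h⟩, 0) := Subtype.ext (by
        show _ = (e (x, tOf r hr x) : G) * (ι 0 : G)
        rw [hιeq 0 1 (one_mem _) (by rw [commutatorElement_one_right]; rfl), mul_one])
      exact hx (congrArg Prod.snd (hebij.1 h2))
    obtain ⟨p, hp, hmem, -⟩ := hg.cover hzW hzV
    have hl := D.cj_eq_cj (conj_mem_cj x.toMul.2) hmem (fun h => hx1 (conj_eq_one_iff.1 h))
    have hleft : ∀ y, sOf p hp (tOf r hr y) = y := by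
      intro y
      have h1 : r * (y.toMul : G) * r⁻¹ ∈ cj (p * g) D.V := hl ▸ conj_mem_cj y.toMul.2
      rw [himg] at h1
      obtain ⟨z, hz⟩ := (hline p hp _).1 h1
      have h2 := heq _ _ hz
      rw [show tOf r hr y = z from congrArg Prod.snd h2]
      exact (congrArg Prod.fst h2).symm
    have hs0 : sOf p hp ≠ 0 := fun h => by
      have := hleft y₀
      rw [h] at this; exact hy₀ this.symm
    obtain ⟨t, ht, -, h2⟩ := hsinv _ ⟨p, hp, rfl⟩ hs0
    have : tOf r hr = t := by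
      calc tOf r hr = t * sOf p hp * tOf r hr := by rw [h2, one_mul]
        _ = t := by rw [mul_assoc, show sOf p hp * tOf r hr = 1 from DFunLike.ext _ _ hleft, mul_one]
    rw [this]; exact ht
  have hrange : α.range = β.range := by
    apply le_antisymm
    · rw [MonoidHom.range_eq_map, Subgroup.map_le_iff_le_comap]
      intro h _
      have : H ≤ (β.range.comap α).map H.subtype := by
        refine sup_le (fun p hp => ?_) (fun r hr => ?_)
        · refine ⟨⟨p, Subgroup.mem_sup_left hp⟩, ?_, rfl⟩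
          obtain ⟨c, hc⟩ := hψsurj _ ⟨p, hp, rfl⟩
          exact ⟨upper c, Equiv.ext fun x => by rw [hβU, hαP p hp, hc]⟩
        · refine ⟨⟨r, Subgroup.mem_sup_right hr⟩, ?_, rfl⟩
          obtain ⟨c, hc⟩ := hψsurj _ (htS r hr)
          exact ⟨lower c, Equiv.ext fun x => by rw [hβL, hαR r hr, hc]⟩
      obtain ⟨h', hh', he'⟩ := this h.2
      rwa [show h' = h from Subtype.ext he'] at hh'
    · rw [MonoidHom.range_eq_map, ← closure_unipotent, MonoidHom.map_closure, Subgroup.closure_le]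
      rintro _ ⟨_, (⟨c, rfl⟩ | ⟨c, rfl⟩), rfl⟩
      · obtain ⟨p, hp, hpc⟩ := hψmem c
        exact ⟨⟨p, Subgroup.mem_sup_left hp⟩, Equiv.ext fun x => by rw [hβU, hαP p hp, hpc]⟩
      · obtain ⟨p, hp, hpc⟩ := hψmem c
        refine ⟨n₀ * ⟨p, Subgroup.mem_sup_left hp⟩ * n₀, Equiv.ext fun x => ?_⟩
        rw [map_mul, map_mul, Equiv.Perm.mul_apply, Equiv.Perm.mul_apply, hswap, hαP p hp, hswap, hβL,
          hpc]
  have hker : α.ker = (Subgroup.centralizer (W : Set G)).subgroupOf H := by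
    ext h
    rw [MonoidHom.mem_ker, Subgroup.mem_subgroupOf, Subgroup.mem_centralizer_iff]
    constructor
    · intro hh w hw
      obtain ⟨x, hx⟩ := hebij.2 ⟨w, hw⟩
      have h1 := hA h x
      have h2 : A h x = x := Equiv.congr_fun hh x
      rw [h2, hx] at h1
      exact (mul_inv_eq_iff_eq_mul.1 h1.symm).symm
    · intro hh
      refine Equiv.ext fun x => heq _ _ ?_
      show (e (A h x) : G) = (e x : G)
      rw [hA, ← hh _ (e x).2, mul_inv_cancel_right]
  exact ⟨(QuotientGroup.quotientMulEquivOfEq hker.symm).trans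
    ((QuotientGroup.quotientKerEquivRange α).trans ((MulEquiv.subgroupCongr hrange).trans
      (MonoidHom.ofInjective hβinj).symm))⟩

end CfsgLib.TISub
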